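import Cfsg.Agent.Mrg.Omega.EK3.Rank
import Cfsg.Agent.Mrg.Omega.OM.Lev.SFr

section


/-!
# THEOREM U (helper23 #24127; referees helper608 #24195, helper372 #24223, helper730 #24294): (1) and (2)

Letters of `ESym/CoreS.lean`.  `Fr` = the fields of `CoreS.Core` without the symmetries, and `ZN`.

* `Fr.exists_A` : some `A ∈ AA(O)` centralises every `N i` and moves some `E_{l,m}`;
* `Fr.no_swap` : no symmetry interchanges `l` and `m` and fixes the other indices;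
* `Fr.nB`, `Fr.syl` : `B` is a Sylow 2-subgroup of `C_G(z_n : n ≠ l, m)`.
-/

set_option autoImplicit false
set_option linter.unusedSectionVars false

namespace Cfsg.Agent.Omega.EDel.ThmU

open Subgroup Cfsg Cfsg.Agent.ZN Cfsg.Agent.ZN.ChoiceBase
open Cfsg.Agent.Omega.NO3S.EThree
open Cfsg.Agent.Omega.NO3S.EThree.ExactA (eab_mono eab_sup eab_iff)
open Cfsg.Agent.Omega.EK3.Rank (NoOn mem_inf_of_mem_AA jj_inf_le offd_of_mem exch)
open Cfsg.Agent.Omega.EK3.Lever (Dt)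
open Cfsg.Agent.Omega.NoFF.Basic (comm_symm comm_mono)
open Cfsg.Agent.Omega.ESym.CoreS
open scoped commutatorElement

universe u

variable {G : Type u} [Group G]

/-- **The frame of THEOREM U.** -/
structure Fr {ι : Type*} (O D ZJ : Subgroup G) (Y N : ι → Subgroup G) : Prop where
  two : IsPGroup 2 O
  OY : ∀ i, O ≤ Y i
  OZ : O ≤ centralizer (ZJ : Set G)
  DY : ∀ i, D ≤ Y i
  three : ∀ i j : ι, ∃ l, l ≠ i ∧ l ≠ j
  eab : ∀ I : Set ι, I ≠ Set.univ → IsElementaryAbelian 2 (EI ZJ Y I : Subgroup G) ∧ EI ZJ Y I ≤ O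
  NE : ∀ i, N i ≤ EI ZJ Y {i}
  YN : ∀ i, Y i ≤ normalizer (N i : Set G)
  YQ : ∀ i, Y i ≤ normalizer ((O ⊓ centralizer (N i : Set G) : Subgroup G) : Set G)
  no : ∀ i, NoOn O (N i)
  gen : ∀ j, ∀ K : Subgroup G, K ≤ Y j → Y j ≤ normalizer (K : Set G) → ¬ K ⊓ O ≤ centralizer (N j : Set G) →
    Y j ≤ K ⊔ D
  ZN : ∀ i, ∀ y ∈ Y i, cj y ZJ ≤ N i ⊔ ZJ

/-- the frame of THEOREM S'' is one -/
theorem _root_.Cfsg.Agent.Omega.ESym.CoreS.Core.toFr {ι : Type*} {O D ZJ : Subgroup G} {Y N : ι → Subgroup G}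
    (h : Core O D ZJ Y N) (ZN : ∀ i, ∀ y ∈ Y i, cj y ZJ ≤ N i ⊔ ZJ) : Fr O D ZJ Y N :=
  ⟨h.two, h.OY, h.OZ, h.DY, h.three, h.eab, h.NE, h.YN, h.YQ, h.no, h.gen, ZN⟩

section sy

variable {ι : Type*} {O : Subgroup G} {Y N : ι → Subgroup G}

theorem sy_one : Sy O Y N 1 1 := ⟨cj_one O, fun _ => cj_one _, fun _ => cj_one _⟩

theorem sy_mul {g g' : G} {σ σ' : Equiv.Perm ι} (h : Sy O Y N g σ) (h' : Sy O Y N g' σ') :
    Sy O Y N (g * g') (σ * σ') := by
  refine ⟨?_, fun l => ?_, fun l => ?_⟩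
  · rw [← cj_cj, h'.O_eq, h.O_eq]
  · rw [← cj_cj, h'.Y_eq, h.Y_eq]; rfl
  · rw [← cj_cj, h'.N_eq, h.N_eq]; rfl

end sy

section core

variable [Finite G] {ι : Type*} {O D ZJ : Subgroup G} {Y N : ι → Subgroup G} (h : Fr O D ZJ Y N)
include h

theorem Fr.N_le_EI {I : Set ι} {i : ι} (hi : i ∈ I) : N i ≤ EI ZJ Y I :=
  (h.NE i).trans (EI_mono (Set.singleton_subset_iff.2 hi))

theorem Fr.pair_ne_univ (i j : ι) : ({i, j} : Set ι) ≠ Set.univ := by
  obtain ⟨l, hl, hl'⟩ := h.three i j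
  intro e
  have : l ∈ ({i, j} : Set ι) := e ▸ Set.mem_univ l
  rcases this with h1 | h1
  · exact hl h1
  · exact hl' h1

theorem Fr.ne_univ (i : ι) : ({i} : Set ι) ≠ Set.univ := by
  obtain ⟨l, hl, -⟩ := h.three i i
  intro e
  have : l ∈ ({i} : Set ι) := e ▸ Set.mem_univ l
  exact hl this

theorem Fr.N_eab (i : ι) : IsElementaryAbelian 2 (N i : Subgroup G) :=
  eab_mono (h.eab _ (h.ne_univ i)).1 (h.NE i)

theorem Fr.N_le_O (i : ι) : N i ≤ O := (h.NE i).trans (h.eab _ (h.ne_univ i)).2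

theorem Fr.NN (i j : ι) : N i ≤ centralizer (N j : Set G) := by
  have h1 := (eab_iff.1 (h.eab _ (h.pair_ne_univ i j)).1).1
  exact (h.N_le_EI (Or.inl rfl)).trans (h1.trans (centralizer_le (h.N_le_EI (Or.inr rfl))))

/-- (a), (b), (c) for one proper `I`: if some `A ∈ AA(O)` moves `E_I`, then some `j ∈ I` has
`Y j ≤ N(N i N j)` for all `i ∈ I`. -/
theorem Fr.step {I : Set ι} (hI : I ≠ Set.univ) (hne : I.Nonempty) {A : Subgroup G} (hA : A ∈ AA O)
    (hAm : ¬ A ≤ centralizer (EI ZJ Y I : Set G)) :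
    ∃ j ∈ I, ∀ i ∈ I, Y j ≤ normalizer ((N i ⊔ N j : Subgroup G) : Set G) := by
  obtain ⟨j0, hj0⟩ := hne
  obtain ⟨hE, hEO⟩ := h.eab I hI
  have hOE : O ≤ normalizer (EI ZJ Y I : Set G) := (h.OY j0).trans (EI_norm hj0)
  have hoff : Offd (EI ZJ Y I) A :=
    offd_of_mem hE hEO hA (hA.2.1.trans hOE) le_rfl hAm
  have hdt : Dt O (EI ZJ Y I) ZJ (fun i : I => Y i) (fun i : I => N i) := by
    refine ⟨(eab_iff.1 hE).1, fun i => h.OY i, fun i => EI_norm i.2, h.OZ, le_rfl, fun i => h.N_le_EI i.2,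
      fun i => h.YN i, fun i => h.YQ i, fun i F hF hFO => h.no i F hF hFO⟩
  obtain ⟨j, F, hFO, hFe, hFm, hF⟩ := hdt.lever hA.2.1 hA.1 hoff
  refine ⟨j, j.2, fun i hi => ?_⟩
  -- the normal closure of `F` in `Y j`
  let K : Subgroup G := ⨆ y : Y j, cj (y : G) F
  have hFY : F ≤ Y j := hFO.trans (h.OY j)
  have hFK : F ≤ K := by
    have := le_iSup (fun y : Y j => cj (y : G) F) 1
    simpa only [OneMemClass.coe_one, cj_one] using this
  have hKY : K ≤ Y j := iSup_le fun y => by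
    have := cj_mono (y : G) hFY
    rwa [cj_eq_of_mem_normalizer (Subgroup.le_normalizer y.2)] at this
  have hYK : Y j ≤ normalizer (K : Set G) := by
    intro y hy
    refine mem_norm_of_le ?_
    change cj y (⨆ x : Y j, cj (x : G) F) ≤ _
    rw [cj, Subgroup.map_iSup]
    refine iSup_le fun x => ?_
    have e : Subgroup.map (MulAut.conj y).toMonoidHom (cj (x : G) F) = cj (y * x : G) F := cj_cj y x F
    rw [e]
    exact le_iSup (fun x : Y j => cj (x : G) F) ⟨y * x, mul_mem hy x.2⟩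
  have hKm : ¬ K ⊓ O ≤ centralizer (N j : Set G) := fun hc => hFm ((le_inf hFK hFO).trans hc)
  have hKN : K ≤ normalizer ((N i ⊔ N j : Subgroup G) : Set G) := by
    refine iSup_le fun y => ?_
    intro x hx
    refine mem_norm_of_le ?_
    rw [cj, Subgroup.map_sup]
    have hxY : x ∈ Y j := hKY (le_iSup (fun y : Y j => cj (y : G) F) y hx)
    refine sup_le ?_ ?_
    · rintro _ ⟨n, hn, rfl⟩
      change x * n * x⁻¹ ∈ _
      -- `x = y f y⁻¹`
      obtain ⟨f, hf, e⟩ := hx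
      have e' : x = (y : G) * f * (y : G)⁻¹ := by rw [← e]; rfl
      have hnE : n ∈ EI ZJ Y I := h.N_le_EI hi hn
      have hn' : (y : G)⁻¹ * n * y ∈ EI ZJ Y I := by
        have := (mem_normalizer_iff.1 (EI_norm j.2 (inv_mem y.2)) n).1 hnE
        rwa [inv_inv] at this
      have h1 := hF _ hn' f hf
      have h2 : (y : G) * ⁅(y : G)⁻¹ * n * y, f⁆ * (y : G)⁻¹ ∈ N j :=
        (mem_normalizer_iff.1 (h.YN j y.2) _).1 h1
      have h3 : ⁅n, x⁆ = (y : G) * ⁅(y : G)⁻¹ * n * y, f⁆ * (y : G)⁻¹ := by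
        rw [e']
        simp only [commutatorElement_def]
        group
      have h4 : x * n * x⁻¹ = ⁅n, x⁆⁻¹ * n := by
        simp only [commutatorElement_def]
        group
      rw [h4]
      exact mul_mem (inv_mem (mem_sup_right (by rw [h3]; exact h2))) (mem_sup_left hn)
    · have h1 := cj_eq_of_mem_normalizer (h.YN j hxY)
      exact (le_of_eq h1).trans le_sup_right
  have hDN : D ≤ normalizer ((N i ⊔ N j : Subgroup G) : Set G) := by
    intro x hx
    refine mem_norm_of_le ?_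
    rw [cj, Subgroup.map_sup]
    exact sup_le_sup (cj_eq_of_mem_normalizer (h.YN i (h.DY i hx))).le
      (cj_eq_of_mem_normalizer (h.YN j (h.DY j hx))).le
  exact (h.gen j K hKY hYK hKm).trans (sup_le hKN hDN)

/-- `AA* ≠ ∅` -/
theorem Fr.star [Finite ι] : ∃ A ∈ AA O, ∀ i, A ≤ centralizer (N i : Set G) := by
  classical
  have key : ∀ s : Finset ι, ∃ A ∈ AA O, ∀ i ∈ s, A ≤ centralizer (N i : Set G) := by
    intro s
    induction s using Finset.induction_on with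
    | empty =>
      obtain ⟨A, hA⟩ := AA_nonempty O
      exact ⟨A, hA, by simp⟩
    | insert i s his ih =>
      obtain ⟨A, hA, hc⟩ := ih
      refine ⟨(A ⊓ centralizer (N i : Set G)) ⊔ N i, (exch (h.N_eab i) (h.N_le_O i) (h.no i) hA).2.2, ?_⟩
      intro j hj
      rcases Finset.mem_insert.1 hj with rfl | hj
      · exact sup_le inf_le_right (eab_iff.1 (h.N_eab _)).1
      · exact sup_le (inf_le_left.trans (hc j hj)) (h.NN i j)
  cases nonempty_fintype ι
  obtain ⟨A, hA, hc⟩ := key Finset.univ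
  exact ⟨A, hA, fun i => hc i (Finset.mem_univ i)⟩

omit h in
theorem ne_bot_of_mem_AA (two : IsPGroup 2 O) (hO : O ≠ ⊥) {A : Subgroup G} (hA : A ∈ AA O) : A ≠ ⊥ := by
  intro e
  apply jj_ne_bot two hO
  rw [ChoiceBase.jj_eq O, eq_bot_iff]
  refine sSup_le fun C hC => ?_
  have h1 : Nat.card C = 1 := by
    rw [← mm_eq hC, mm_eq hA, e, Subgroup.card_bot]
  exact (Subgroup.card_eq_one.1 h1).le

/-- **THEOREM U (1).** -/
theorem Fr.exists_A [Finite ι] (hO : O ≠ ⊥)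
    (nl : ∀ R : Subgroup G, R ≠ ⊥ → IsPGroup 2 R → ¬ ∀ j, Y j ≤ normalizer (R : Set G)) :
    ∃ A ∈ AA O, (∀ i, A ≤ centralizer (N i : Set G)) ∧
      ∃ l m, l ≠ m ∧ ¬ A ≤ centralizer (EI ZJ Y {l, m} : Set G) := by
  classical
  by_contra hcon
  push Not at hcon
  -- `AA*` is invariant under every `Y l`
  have hinv : ∀ l, ∀ y ∈ Y l, ∀ A ∈ AA O, (∀ i, A ≤ centralizer (N i : Set G)) →
      cj y A ∈ AA O ∧ ∀ i, cj y A ≤ centralizer (N i : Set G) := by
    intro l y hy A hA hc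
    have hQ : A ≤ O ⊓ centralizer (N l : Set G) := le_inf hA.2.1 (hc l)
    have hQ' : cj y A ≤ O ⊓ centralizer (N l : Set G) := by
      have := cj_mono y hQ
      rwa [cj_eq_of_mem_normalizer (h.YQ l hy)] at this
    have hyA : cj y A ∈ AA O := by
      rw [mem_AA_iff]
      refine ⟨(cj_mem_AA y hA).1, hQ'.trans inf_le_left, ?_⟩
      rw [card_cj, mm_eq hA]
    refine ⟨hyA, fun i => ?_⟩
    by_cases hi : i = l
    · rw [hi]; exact hQ'.trans inf_le_right
    · have h1 := hcon A hA hc i l hi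
      have h2 : A ≤ centralizer (cj y⁻¹ (N i) : Set G) := by
        refine h1.trans (centralizer_le ?_)
        have h3 := cj_mono y⁻¹ (h.N_le_EI (I := {i, l}) (i := i) (Or.inl rfl))
        have h4 : cj y⁻¹ (EI ZJ Y {i, l}) = EI ZJ Y {i, l} :=
          cj_eq_of_mem_normalizer (EI_norm (I := {i, l}) (i := l) (Or.inr rfl) (inv_mem hy))
        rw [h4] at h3
        exact h3
      have h5 := cj_mono y h2
      rwa [← cj_centralizer, cj_cj_inv] at h5
  -- the join of `AA*`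
  let J : Subgroup G := ⨆ A : {A : Subgroup G // A ∈ AA O ∧ ∀ i, A ≤ centralizer (N i : Set G)}, (A : Subgroup G)
  obtain ⟨A, hA, hc⟩ := h.star
  have hAJ : A ≤ J := le_iSup
    (fun A : {A : Subgroup G // A ∈ AA O ∧ ∀ i, A ≤ centralizer (N i : Set G)} => (A : Subgroup G)) ⟨A, hA, hc⟩
  have hJO : J ≤ O := iSup_le fun A => A.2.1.2.1
  refine nl J (fun e => ne_bot_of_mem_AA h.two hO hA (eq_bot_iff.2 (hAJ.trans e.le))) (h.two.to_le hJO) ?_
  intro l y hy
  refine mem_norm_of_le ?_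
  rw [cj, Subgroup.map_iSup]
  refine iSup_le fun C => ?_
  obtain ⟨h1, h2⟩ := hinv l y hy C.1 C.2.1 C.2.2
  exact le_iSup (fun A : {A : Subgroup G // A ∈ AA O ∧ ∀ i, A ≤ centralizer (N i : Set G)} => (A : Subgroup G))
    ⟨cj y C.1, h1, h2⟩

/-- `J(O)` moves every `N j` when the symmetries are transitive -/
theorem Fr.moves (hO : O ≠ ⊥)
    (nl : ∀ R : Subgroup G, R ≠ ⊥ → IsPGroup 2 R → ¬ ∀ j, Y j ≤ normalizer (R : Set G))
    (tr : ∀ i j, ∃ g, ∃ σ : Equiv.Perm ι, Sy O Y N g σ ∧ σ i = j) (j : ι) :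
    ∃ A ∈ AA O, ¬ A ≤ centralizer (N j : Set G) := by
  by_contra hj
  push Not at hj
  have e : jj O = jj (O ⊓ centralizer (N j : Set G)) := by
    refine le_antisymm ?_ (jj_inf_le (h.N_eab j) (h.N_le_O j) (h.no j))
    rw [ChoiceBase.jj_eq O]
    exact sSup_le fun A hA => ChoiceBase.le_jj (mem_inf_of_mem_AA (h.N_eab j) (h.N_le_O j) (h.no j) hA (hj A hA))
  have h1 : Y j ≤ normalizer (jj O : Set G) := by
    rw [e]
    exact (h.YQ j).trans (jj_norm _)
  refine nl (jj O) (jj_ne_bot h.two hO) (h.two.to_le (ChoiceBase.jj_le O)) fun i => ?_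
  obtain ⟨g, σ, hg, hσ⟩ := tr j i
  have h2 := cj_mono g h1
  rwa [hg.Y_eq, hσ, cj_normalizer, ← jj_cj, hg.O_eq] at h2

/-- **THEOREM S'' (transitive case)**: a symmetry which fixes an index is trivial on the indices -/
theorem Fr.regular [Finite ι] (hO : O ≠ ⊥)
    (nl : ∀ R : Subgroup G, R ≠ ⊥ → IsPGroup 2 R → ¬ ∀ j, Y j ≤ normalizer (R : Set G))
    (tr : ∀ i j, ∃ g, ∃ σ : Equiv.Perm ι, Sy O Y N g σ ∧ σ i = j) {g : G} {σ : Equiv.Perm ι}
    (hg : Sy O Y N g σ) {n : ι} (hn : σ n = n) : σ = 1 := by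
  classical
  have hm := h.moves hO nl tr
  refine Cfsg.Agent.Omega.ESym.Comb.fix_all
    (fun i j => ¬ Y i ≤ normalizer ((N j ⊔ N i : Subgroup G) : Set G)) ?_ ?_ σ ?_ n hn
  · -- every index has an arrow
    intro j
    by_contra hcon
    push Not at hcon
    have hall : ∀ i, Y j ≤ normalizer ((N i ⊔ N j : Subgroup G) : Set G) := by
      intro i
      by_cases hi : i = j
      · rw [hi, sup_idem]; exact h.YN j
      · exact hcon i hi
    have hall' : ∀ i k, Y k ≤ normalizer ((N i ⊔ N k : Subgroup G) : Set G) := by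
      intro i k
      obtain ⟨g, σ, hg, hσ⟩ := tr j k
      have h1 := hg.conj_rel (hall (σ⁻¹ i))
      rwa [inv_r σ i, hσ] at h1
    refine nl (⨆ i, N i) ?_ (h.two.to_le (iSup_le h.N_le_O)) fun k => ?_
    · obtain ⟨A, -, hA⟩ := hm j
      intro e
      apply hA
      have h1 : N j = ⊥ := eq_bot_iff.2 ((le_iSup N j).trans e.le)
      rw [h1]
      intro x _
      rw [mem_centralizer_iff]
      intro y hy
      rw [SetLike.mem_coe, mem_bot] at hy
      rw [hy, one_mul, mul_one]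
    · intro x hx
      refine mem_norm_of_le ?_
      rw [cj, Subgroup.map_iSup]
      refine iSup_le fun i => ?_
      have h1 : cj x (N i) ≤ N i ⊔ N k := by
        refine (cj_mono x (le_sup_left (b := N k))).trans ?_
        exact (cj_eq_of_mem_normalizer (hall' i k hx)).le
      exact h1.trans (sup_le (le_iSup N i) (le_iSup N k))
  · -- every proper set has a sink
    intro K hK hKu
    obtain ⟨k, hk⟩ := hK
    obtain ⟨A, hA, hAm⟩ := hm k
    obtain ⟨i, hi, hir⟩ := h.step hKu ⟨k, hk⟩ hA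
      (fun hc => hAm (hc.trans (centralizer_le (h.N_le_EI hk))))
    exact ⟨i, hi, fun j hj _ => by rw [not_not]; exact hir j hj⟩
  · -- invariance
    intro i j hij hc
    apply hij
    have h1 := hg.inv.conj_rel hc
    rwa [inv_l σ i, inv_l σ j] at h1

/-- **THEOREM U (2)**: no symmetry interchanges `l` and `m` and fixes the other indices. -/
theorem Fr.no_swap [Finite ι] (hO : O ≠ ⊥)
    (nl : ∀ R : Subgroup G, R ≠ ⊥ → IsPGroup 2 R → ¬ ∀ j, Y j ≤ normalizer (R : Set G))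
    {A : Subgroup G} (hA : A ∈ AA O) (hc : ∀ i, A ≤ centralizer (N i : Set G)) {l m : ι} (hlm : l ≠ m)
    (hAm : ¬ A ≤ centralizer (EI ZJ Y {l, m} : Set G)) {g : G} {σ : Equiv.Perm ι} (hg : Sy O Y N g σ)
    (h1 : σ l = m) (h3 : ∀ n, n ≠ l → n ≠ m → σ n = n) : False := by
  classical
  -- the orbit of `l`
  let I : Set ι := {j | ∃ g, ∃ σ : Equiv.Perm ι, Sy O Y N g σ ∧ σ l = j}
  have hlI : l ∈ I := ⟨1, 1, sy_one, rfl⟩
  have hmI : m ∈ I := ⟨g, σ, hg, h1⟩
  have htr : ∀ j ∈ I, ∀ k ∈ I, ∃ g, ∃ σ : Equiv.Perm ι, Sy O Y N g σ ∧ σ j = k := by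
    rintro j ⟨g1, σ1, hg1, e1⟩ k ⟨g2, σ2, hg2, e2⟩
    refine ⟨g2 * g1⁻¹, σ2 * σ1⁻¹, sy_mul hg2 hg1.inv, ?_⟩
    rw [Equiv.Perm.mul_apply, ← e1, inv_l σ1 l, e2]
  by_cases hI : I = Set.univ
  · -- the transitive case: `THEOREM S''`
    obtain ⟨n, hn1, hn2⟩ := h.three l m
    have := h.regular hO nl (fun i j => htr i (hI ▸ Set.mem_univ i) j (hI ▸ Set.mem_univ j)) hg (h3 n hn1 hn2)
    rw [this] at h1
    exact hlm h1
  · have hpair : ({l, m} : Set ι) ⊆ I := by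
      rintro x (rfl | rfl)
      · exact hlI
      · exact hmI
    obtain ⟨j, hj, hjr⟩ := h.step hI ⟨l, hlI⟩ hA
      (fun hx => hAm (hx.trans (centralizer_le (EI_mono hpair))))
    have hall : ∀ i ∈ I, ∀ k ∈ I, Y k ≤ normalizer ((N i ⊔ N k : Subgroup G) : Set G) := by
      intro i hi k hk
      obtain ⟨g', τ, hg', hτ⟩ := htr j hj k hk
      have h4 : τ⁻¹ i ∈ I := by
        obtain ⟨g1, σ1, hg1, e1⟩ := hi
        exact ⟨g'⁻¹ * g1, τ⁻¹ * σ1, sy_mul hg'.inv hg1, by rw [Equiv.Perm.mul_apply, e1]⟩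
      have h5 := hg'.conj_rel (hjr _ h4)
      rwa [inv_r τ i, hτ] at h5
    -- `E_lm ≤ N_l N_m ZJ`
    have hW : EI ZJ Y {l, m} ≤ (N l ⊔ N m) ⊔ ZJ := by
      have hn : ∀ i ∈ ({l, m} : Set ι), Y i ≤ normalizer (((N l ⊔ N m) ⊔ ZJ : Subgroup G) : Set G) := by
        intro i hi x hx
        refine mem_norm_of_le ?_
        have hNi : N i ≤ N l ⊔ N m := by
          rcases hi with rfl | hi
          · exact le_sup_left
          · rw [show i = m from hi]; exact le_sup_right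
        have h6 : cj x (N l ⊔ N m) ≤ N l ⊔ N m := by
          refine (cj_eq_of_mem_normalizer ?_).le
          rcases hi with rfl | hi
          · rw [sup_comm]; exact hall m hmI i hlI hx
          · have e : i = m := hi
            rw [e] at hx
            exact hall l hlI m hmI hx
        rw [cj, Subgroup.map_sup]
        exact sup_le (h6.trans le_sup_left) ((h.ZN i x hx).trans (sup_le (hNi.trans le_sup_left) le_sup_right))
      have hn' : (⨆ i : ({l, m} : Set ι), Y i : Subgroup G) ≤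
          normalizer (((N l ⊔ N m) ⊔ ZJ : Subgroup G) : Set G) := iSup_le fun i => hn i.1 i.2
      refine iSup_le fun y => ?_
      have h7 := cj_mono (y : G) (le_sup_right (a := N l ⊔ N m) (b := ZJ))
      rwa [cj_eq_of_mem_normalizer (hn' y.2)] at h7
    apply hAm
    refine comm_symm (hW.trans (sup_le (sup_le (comm_symm (hc l)) (comm_symm (hc m))) ?_))
    exact comm_symm (hA.2.1.trans h.OZ)

/-- `N_X(B) ≤ D`, `X = C_G(z_n : n ≠ l, m)` -/
theorem Fr.nB [Finite ι] (hO : O ≠ ⊥)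
    (nl : ∀ R : Subgroup G, R ≠ ⊥ → IsPGroup 2 R → ¬ ∀ j, Y j ≤ normalizer (R : Set G))
    {A : Subgroup G} (hA : A ∈ AA O) (hc : ∀ i, A ≤ centralizer (N i : Set G)) {l m : ι} (hlm : l ≠ m)
    (hAm : ¬ A ≤ centralizer (EI ZJ Y {l, m} : Set G))
    {B : Subgroup G} {z : ι → G} (hz : Function.Injective z) (hD : D = centralizer (Set.range z))
    (NB : ∀ g ∈ normalizer (B : Set G), ∃ σ : Equiv.Perm ι, Sy O Y N g σ ∧ ∀ i, g * z i * g⁻¹ = z (σ i)) :
    centralizer {x | ∃ n, n ≠ l ∧ n ≠ m ∧ z n = x} ⊓ normalizer (B : Set G) ≤ D := by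
  rintro g ⟨hgX, hgB⟩
  obtain ⟨σ, hσ, hσz⟩ := NB g hgB
  have hfix : ∀ n, n ≠ l → n ≠ m → σ n = n := by
    intro n hn1 hn2
    apply hz
    rw [← hσz n]
    have := (mem_centralizer_iff.1 hgX) (z n) ⟨n, hn1, hn2, rfl⟩
    rw [← this, mul_inv_cancel_right]
  have hl : σ l = l := by
    by_contra hne
    have hm : σ l = m := by
      by_contra hne'
      have h4 := hfix _ hne hne'
      exact hne (σ.injective h4)
    exact h.no_swap hO nl hA hc hlm hAm hσ hm hfix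
  have hmm : σ m = m := by
    by_contra hne
    have hne' : σ m ≠ l := fun e => hlm (σ.injective (hl.trans e.symm))
    exact hne (σ.injective (hfix _ hne' hne))
  rw [hD, mem_centralizer_iff]
  rintro _ ⟨i, rfl⟩
  have hi : σ i = i := by
    by_cases h1 : i = l
    · rw [h1]; exact hl
    by_cases h2 : i = m
    · rw [h2]; exact hmm
    · exact hfix i h1 h2
  have := hσz i
  rw [hi] at this
  exact (mul_inv_eq_iff_eq_mul.1 this).symm

end core

/-- `B` is Sylow in `X` if it is Sylow in `D ≥ N_X(B)` -/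
theorem sylow_of_norm [Finite G] {B D X : Subgroup G} (hB : IsPGroup 2 B) (hBD : B ≤ D) (hDX : D ≤ X)
    (hD : ¬ 2 ∣ B.relIndex D) (hn : X ⊓ normalizer (B : Set G) ≤ D) : ¬ 2 ∣ B.relIndex X := by
  have : Fact (Nat.Prime 2) := ⟨Nat.prime_two⟩
  have hBX := hBD.trans hDX
  intro h2
  have hU : IsPGroup 2 (B.subgroupOf X) := hB.comap_of_injective _ X.subtype_injective
  obtain ⟨n, hn'⟩ := hU.exists_card_eq
  have h3 : 2 ^ (n + 1) ∣ Nat.card X := by
    rw [← (B.subgroupOf X).card_mul_index, hn', pow_succ]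
    exact Nat.mul_dvd_mul_left _ h2
  have h4 : 2 ∣ (B.subgroupOf X).relIndex (normalizer (B.subgroupOf X : Set X)) :=
    Sylow.prime_dvd_card_quotient_normalizer h3 hn'
  have h5 : (normalizer (B.subgroupOf X : Set X)).map X.subtype ≤ D := by
    refine le_trans (le_inf (map_subtype_le _) ?_) hn
    rintro _ ⟨x, hx, rfl⟩
    refine mem_norm_of_le ?_
    rintro _ ⟨b, hb, rfl⟩
    have := (mem_normalizer_iff.1 hx ⟨b, hBX hb⟩).1 (mem_subgroupOf.2 hb)
    exact mem_subgroupOf.1 this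
  have h6 : B.relIndex ((normalizer (B.subgroupOf X : Set X)).map X.subtype) =
      (B.subgroupOf X).relIndex (normalizer (B.subgroupOf X : Set X)) := by
    have := relIndex_map_map_of_injective (B.subgroupOf X) (normalizer (B.subgroupOf X : Set X))
      X.subtype_injective
    rwa [subgroupOf_map_subtype, inf_eq_left.2 hBX] at this
  have h7 : B ≤ (normalizer (B.subgroupOf X : Set X)).map X.subtype := by
    intro b hb
    exact ⟨⟨b, hBX hb⟩, Subgroup.le_normalizer (mem_subgroupOf.2 hb), rfl⟩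
  apply hD
  rw [← relIndex_mul_relIndex B _ D h7 h5, h6]
  exact h4.mul_right _

section syl

variable [Finite G] {ι : Type*} {O D ZJ : Subgroup G} {Y N : ι → Subgroup G} (h : Fr O D ZJ Y N)
include h

/-- **THEOREM U (2)**: `B` is a Sylow 2-subgroup of `X = C_G(z_n : n ≠ l, m)`. -/
theorem Fr.syl [Finite ι] (hO : O ≠ ⊥)
    (nl : ∀ R : Subgroup G, R ≠ ⊥ → IsPGroup 2 R → ¬ ∀ j, Y j ≤ normalizer (R : Set G))
    {A : Subgroup G} (hA : A ∈ AA O) (hc : ∀ i, A ≤ centralizer (N i : Set G)) {l m : ι} (hlm : l ≠ m)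
    (hAm : ¬ A ≤ centralizer (EI ZJ Y {l, m} : Set G))
    {B : Subgroup G} (hB : IsPGroup 2 B) (hBD : B ≤ D) (hsyl : ¬ 2 ∣ B.relIndex D)
    {z : ι → G} (hz : Function.Injective z) (hD : D = centralizer (Set.range z))
    (NB : ∀ g ∈ normalizer (B : Set G), ∃ σ : Equiv.Perm ι, Sy O Y N g σ ∧ ∀ i, g * z i * g⁻¹ = z (σ i)) :
    ¬ 2 ∣ B.relIndex (centralizer {x | ∃ n, n ≠ l ∧ n ≠ m ∧ z n = x}) := by
  refine sylow_of_norm hB hBD ?_ hsyl (h.nB hO nl hA hc hlm hAm hz hD NB)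
  rw [hD]
  exact centralizer_le (by rintro _ ⟨n, -, -, rfl⟩; exact ⟨n, rfl⟩)

/-- **THEOREM U (1), (2) together.** -/
theorem Fr.main [Finite ι] (hO : O ≠ ⊥)
    (nl : ∀ R : Subgroup G, R ≠ ⊥ → IsPGroup 2 R → ¬ ∀ j, Y j ≤ normalizer (R : Set G))
    {B : Subgroup G} (hB : IsPGroup 2 B) (hBD : B ≤ D) (hsyl : ¬ 2 ∣ B.relIndex D)
    {z : ι → G} (hz : Function.Injective z) (hD : D = centralizer (Set.range z))
    (NB : ∀ g ∈ normalizer (B : Set G), ∃ σ : Equiv.Perm ι, Sy O Y N g σ ∧ ∀ i, g * z i * g⁻¹ = z (σ i)) :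
    ∃ A ∈ AA O, (∀ i, A ≤ centralizer (N i : Set G)) ∧ ∃ l m, l ≠ m ∧
      ¬ A ≤ centralizer (EI ZJ Y {l, m} : Set G) ∧
      ¬ 2 ∣ B.relIndex (centralizer {x | ∃ n, n ≠ l ∧ n ≠ m ∧ z n = x}) ∧
      centralizer {x | ∃ n, n ≠ l ∧ n ≠ m ∧ z n = x} ⊓ normalizer (B : Set G) ≤ D := by
  obtain ⟨A, hA, hc, l, m, hlm, hAm⟩ := h.exists_A hO nl
  exact ⟨A, hA, hc, l, m, hlm, hAm, h.syl hO nl hA hc hlm hAm hB hBD hsyl hz hD NB,
    h.nB hO nl hA hc hlm hAm hz hD NB⟩

end syl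

end Cfsg.Agent.Omega.EDel.ThmU

end

section


/-!
# THEOREM U (1), (2) in group form (helper848 #24915 (B): `T`-frames, fields and different `q_i` allowed)

`F i` : the `T`-fixed part of the `i`-th line; `T` a 2-group which is Sylow in the kernel of `N_G(T)` on the indices.

* `XF F l m` : `C_G(F n : n ≠ l, m)`;
* `Fr.no_perm` : an element of `N_G(T) ∩ XF F l m` fixes all indices (in the situation of `Fr.exists_A`);
* `Fr.sylT` : `T` is a Sylow 2-subgroup of `XF F l m`;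
* `Fr.mainT` : (1) and (2) together.
-/

set_option autoImplicit false
set_option linter.unusedSectionVars false

namespace Cfsg.Agent.Omega.EDel.ThmU

open Subgroup Cfsg Cfsg.Agent.ZN Cfsg.Agent.ZN.ChoiceBase
open Cfsg.Agent.Omega.NO3S.EThree
open Cfsg.Agent.Omega.NoFF.Basic (comm_symm comm_mono)
open Cfsg.Agent.Omega.ESym.CoreS

universe u

variable {G : Type u} [Group G]

/-- `C_G(F n : n ≠ l, m)` -/
def XF {ι : Type*} (F : ι → Subgroup G) (l m : ι) : Subgroup G :=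
  centralizer {x | ∃ n, n ≠ l ∧ n ≠ m ∧ x ∈ F n}

theorem XF_comm {ι : Type*} (F : ι → Subgroup G) (l m : ι) : XF F l m = XF F m l := by
  unfold XF
  congr 1
  ext x
  constructor
  · rintro ⟨n, h1, h2, h3⟩
    exact ⟨n, h2, h1, h3⟩
  · rintro ⟨n, h1, h2, h3⟩
    exact ⟨n, h2, h1, h3⟩

theorem XF_le {ι : Type*} (F : ι → Subgroup G) {l m n : ι} (hl : n ≠ l) (hm : n ≠ m) :
    XF F l m ≤ centralizer (F n : Set G) :=
  centralizer_le fun _ hx => ⟨n, hl, hm, hx⟩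

/-- a 2-group which contains the 2-elements of its normaliser in `X` is Sylow in `X` -/
theorem sylow_of_two [Finite G] {T X : Subgroup G} (hT : IsPGroup 2 T) (hTX : T ≤ X)
    (h : ∀ g ∈ X ⊓ normalizer (T : Set G), (∃ k : ℕ, g ^ 2 ^ k = 1) → g ∈ T) : ¬ 2 ∣ T.relIndex X := by
  have : Fact (Nat.Prime 2) := ⟨Nat.prime_two⟩
  set D := X ⊓ normalizer (T : Set G) with hD
  have hTD : T ≤ D := le_inf hTX le_normalizer
  refine sylow_of_norm (D := D) hT hTD inf_le_left ?_ le_rfl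
  intro h2
  -- `D / T` has even order: there is a 2-element of `D` outside `T`
  have hn : (T.subgroupOf D).Normal := normal_subgroupOf_of_le_normalizer inf_le_right
  have hU : IsPGroup 2 (T.subgroupOf D) := hT.comap_of_injective _ D.subtype_injective
  obtain ⟨P, hP⟩ := hU.exists_le_sylow
  have h3 : (P : Subgroup D) ≤ T.subgroupOf D := by
    intro g hg
    rw [mem_subgroupOf]
    refine h g g.2 ?_
    obtain ⟨k, hk⟩ := P.isPGroup' ⟨g, hg⟩
    refine ⟨k, ?_⟩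
    have := congrArg (fun x : P => ((x : D) : G)) hk
    simpa using this
  have h4 : (P : Subgroup D) = T.subgroupOf D := le_antisymm h3 hP
  have h5 := P.not_dvd_index
  rw [h4] at h5
  exact h5 h2

section core

variable [Finite G] {ι : Type*} {O D ZJ : Subgroup G} {Y N : ι → Subgroup G} (h : Fr O D ZJ Y N)
include h

/-- an element of `N_G(T) ∩ C_G(F n : n ≠ l, m)` fixes all indices -/
theorem Fr.no_perm [Finite ι] (hO : O ≠ ⊥)
    (nl : ∀ R : Subgroup G, R ≠ ⊥ → IsPGroup 2 R → ¬ ∀ j, Y j ≤ normalizer (R : Set G))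
    {A : Subgroup G} (hA : A ∈ AA O) (hc : ∀ i, A ≤ centralizer (N i : Set G)) {l m : ι} (hlm : l ≠ m)
    (hAm : ¬ A ≤ centralizer (EI ZJ Y {l, m} : Set G)) {T : Subgroup G} {F : ι → Subgroup G}
    (hF : Function.Injective F)
    (NT : ∀ g ∈ normalizer (T : Set G), ∃ σ : Equiv.Perm ι, Sy O Y N g σ ∧ ∀ i, cj g (F i) = F (σ i))
    {g : G} (hgX : g ∈ XF F l m) (hgT : g ∈ normalizer (T : Set G)) (i : ι) : cj g (F i) = F i := by
  obtain ⟨σ, hσ, hσF⟩ := NT g hgT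
  have hfix : ∀ n, n ≠ l → n ≠ m → σ n = n := by
    intro n hn1 hn2
    apply hF
    rw [← hσF n]
    exact cj_eq_of_mem_normalizer (centralizer_le_normalizer _ (XF_le F hn1 hn2 hgX))
  have hl : σ l = l := by
    by_contra hne
    have hm : σ l = m := by
      by_contra hne'
      have h4 := hfix _ hne hne'
      exact hne (σ.injective h4)
    exact h.no_swap hO nl hA hc hlm hAm hσ hm hfix
  have hmm : σ m = m := by
    by_contra hne
    have hne' : σ m ≠ l := fun e => hlm (σ.injective (hl.trans e.symm))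
    exact hne (σ.injective (hfix _ hne' hne))
  have hi : σ i = i := by
    by_cases h1 : i = l
    · rw [h1]; exact hl
    by_cases h2 : i = m
    · rw [h2]; exact hmm
    · exact hfix i h1 h2
  rw [hσF i, hi]

/-- **THEOREM U (2), group form**: `T` is Sylow in `C_G(F n : n ≠ l, m)`. -/
theorem Fr.sylT [Finite ι] (hO : O ≠ ⊥)
    (nl : ∀ R : Subgroup G, R ≠ ⊥ → IsPGroup 2 R → ¬ ∀ j, Y j ≤ normalizer (R : Set G))
    {A : Subgroup G} (hA : A ∈ AA O) (hc : ∀ i, A ≤ centralizer (N i : Set G)) {l m : ι} (hlm : l ≠ m)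
    (hAm : ¬ A ≤ centralizer (EI ZJ Y {l, m} : Set G)) {T : Subgroup G} (hT : IsPGroup 2 T)
    {F : ι → Subgroup G} (hF : Function.Injective F)
    (NT : ∀ g ∈ normalizer (T : Set G), ∃ σ : Equiv.Perm ι, Sy O Y N g σ ∧ ∀ i, cj g (F i) = F (σ i))
    (ker : ∀ g ∈ normalizer (T : Set G), (∃ k : ℕ, g ^ 2 ^ k = 1) → (∀ i, cj g (F i) = F i) → g ∈ T)
    (hTX : T ≤ XF F l m) : ¬ 2 ∣ T.relIndex (XF F l m) :=
  sylow_of_two hT hTX fun g hg h2 => ker g hg.2 h2 (h.no_perm hO nl hA hc hlm hAm hF NT hg.1 hg.2)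

/-- **THEOREM U (1), (2) together, group form.** -/
theorem Fr.mainT [Finite ι] (hO : O ≠ ⊥)
    (nl : ∀ R : Subgroup G, R ≠ ⊥ → IsPGroup 2 R → ¬ ∀ j, Y j ≤ normalizer (R : Set G))
    {T : Subgroup G} (hT : IsPGroup 2 T) {F : ι → Subgroup G} (hF : Function.Injective F)
    (hTF : ∀ i, T ≤ centralizer (F i : Set G))
    (NT : ∀ g ∈ normalizer (T : Set G), ∃ σ : Equiv.Perm ι, Sy O Y N g σ ∧ ∀ i, cj g (F i) = F (σ i))
    (ker : ∀ g ∈ normalizer (T : Set G), (∃ k : ℕ, g ^ 2 ^ k = 1) → (∀ i, cj g (F i) = F i) → g ∈ T) :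
    ∃ A ∈ AA O, (∀ i, A ≤ centralizer (N i : Set G)) ∧ ∃ l m, l ≠ m ∧
      ¬ A ≤ centralizer (EI ZJ Y {l, m} : Set G) ∧ ¬ 2 ∣ T.relIndex (XF F l m) ∧
      ∀ g ∈ XF F l m ⊓ normalizer (T : Set G), ∀ i, cj g (F i) = F i := by
  obtain ⟨A, hA, hc, l, m, hlm, hAm⟩ := h.exists_A hO nl
  refine ⟨A, hA, hc, l, m, hlm, hAm, h.sylT hO nl hA hc hlm hAm hT hF NT ker ?_, fun g hg i =>
    h.no_perm hO nl hA hc hlm hAm hF NT hg.1 hg.2 i⟩
  intro t ht
  rw [XF, mem_centralizer_iff]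
  rintro x ⟨n, -, -, hx⟩
  exact (mem_centralizer_iff.1 (hTF n ht)) x hx

end core

end Cfsg.Agent.Omega.EDel.ThmU

end
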