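import Cfsg.Agent.Mrg.Omega.EDel.Gen
import Cfsg.Agent.Mrg.Omega.ESym.Digraph
import Cfsg.Agent.Mrg.Omega.NOThreeL.RRed.BFr.RegT
import Cfsg.Agent.Mrg.Omega.NOThreeL.RRed.BFr.Frame
import Cfsg.Agent.Mrg.Omega.NOThreeL.RRed.BFr.Stage
import Cfsg.Agent.Mrg.Omega.NOThreeL.RRed.BFr.HM

section


/-!
# THEOREM S''T over `Zf`

* **`Zf.cyc_of`** : no nontrivial 2-subgroup is normalised by all `Y i = ⟨C_G(ZJ), L i⟩`, at least three indices, the
  symmetries of the `z i` transitive: then they all commute with one cycle;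
* **`Zf.false_ofT`** : the end, if some symmetry fixes a point and moves another one.
-/

set_option autoImplicit false
set_option linter.unusedSectionVars false

namespace Cfsg.Agent.Omega.EDel

open Subgroup Cfsg Cfsg.Agent.ZN.ChoiceBase
open Cfsg.Agent.ZN (zc zl o2 jj)
open Cfsg.Agent.Omega.EK3 (CT mem_CT CT_mono)
open Cfsg.Agent.Omega.EK3.StarE (EE EE_le EE_mono le_EE norm_EE cj_le_EE cj_iSup_le)
open Cfsg.Agent.Omega.ESym.CoreS (EI Sy)
open Cfsg.Agent.Omega.ESym.CoreT (Cr eq_of_fix)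

universe u

variable {G : Type u} [Group G] {ι : Type} {B Q V X ZJ : Subgroup G} {L W Z C A : ι → Subgroup G} {z : ι → G}

namespace Zf

variable (h : Zf B Q V X ZJ L W Z C A z)
include h

section norm

variable [Finite G] [Finite ι]

/-- **`CoreT.Cr` over `Zf`** -/
theorem coreT [Nonempty ι] (hML : ML.Final.MLK.{u, u}) (hK : ∀ i, IsKGroup (YL ZJ L i))
    (three : ∀ i j : ι, ∃ l, l ≠ i ∧ l ≠ j)
    (tr : ∀ i j, ∃ g, ∃ σ : Equiv.Perm ι,
      Sy (o2 (centralizer (ZJ : Set G))) (YL ZJ L) (NL ZJ L z) g σ ∧ σ i = j) :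
    Cr (o2 (centralizer (ZJ : Set G))) (centralizer (ZJ : Set G)) ZJ (YL ZJ L) (NL ZJ L z) where
  two := MinSimple.VModule.o2_isPGroup _
  OY i := (Cfsg.Agent.ZN.o2_le _).trans (D_le_YL i)
  OZ := Cfsg.Agent.ZN.o2_le _
  DY := D_le_YL
  three := three
  ne := inferInstance
  eab I hI := h.EI_el h.YL_le_CT hI
  NE i := (h.N_le_EE i _).trans (EE_mono (le_iSup (fun i : ({i} : Set ι) => YL ZJ L i) ⟨i, rfl⟩))
  YN i := norm_EE _ _
  YQ i := h.YQ (D_le_YL i) (h.YL_le_CT i)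
  no i := by
    obtain ⟨l, hl, -⟩ := three i i
    exact h.no hML (hK i) (D_le_YL i) (h.YL_le_CT i) ⟨l, hl⟩
  gen i K hKY hYK hm := by
    obtain ⟨l, hl, -⟩ := three i i
    exact h.gen ⟨l, hl⟩ hKY hYK hm
  tr := tr

/-- **THEOREM S''T over `Zf`**, first form. -/
theorem cyc_of [Nonempty ι] (hML : ML.Final.MLK.{u, u}) (hK : IsKProper G)
    (cjY : ∀ g ∈ normalizer (B : Set G), ∀ i j, g * z i * g⁻¹ = z j → cj g (L i) ≤ YL ZJ L j)
    (nl : ∀ U : Subgroup G, U ≠ ⊥ → IsPGroup 2 U → ¬ ∀ i, YL ZJ L i ≤ normalizer (U : Set G))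
    (three : ∀ i j : ι, ∃ l, l ≠ i ∧ l ≠ j)
    (tr : ∀ i j, ∃ g, ∃ π : Equiv.Perm ι, (∀ l, g * z l * g⁻¹ = z (π l)) ∧ π i = j) :
    ∃ τ : Equiv.Perm ι, (∀ i j, ∃ n : ℕ, (τ ^ n) i = j) ∧
      ∀ g, ∀ π : Equiv.Perm ι, (∀ l, g * z l * g⁻¹ = z (π l)) → ∀ i, π (τ i) = τ (π i) := by
  obtain ⟨i₀⟩ := ‹Nonempty ι›
  have : Nonempty ι := ⟨i₀⟩
  have hKi : ∀ i, IsKGroup (YL ZJ L i) := by
    intro i
    refine hK _ fun e => ?_
    obtain ⟨l, hl, -⟩ := three i i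
    -- `z l` is central in `G`
    have h1 : ∀ g : G, g * z l = z l * g := fun g =>
      mem_CT.1 (h.YL_le_CT i (by rw [e]; exact mem_top g)) l hl
    refine nl (zpowers (z l)) (fun e1 => h.z_ne l (zpowers_eq_bot.1 e1)) ?_ fun j g _ => ?_
    · refine h.Bp.to_le (zpowers_le.2 ?_)
      have h2 : z l ∈ zc B := by
        rw [h.fr.zcB]
        exact h.z_mem l
      exact (mem_zc.1 h2).1
    · rw [mem_normalizer_iff_cj]
      refine cj_eq_of_mem_normalizer (centralizer_le_normalizer _ (mem_centralizer_iff.2 fun x hx => ?_))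
      obtain ⟨n, rfl⟩ := hx
      exact ((show Commute g (z l) from h1 g).zpow_right n).eq.symm
  have hO : o2 (centralizer (ZJ : Set G)) ≠ ⊥ := by
    intro e
    obtain ⟨l, hl, -⟩ := three i₀ i₀
    have h1 : z i₀ ∈ EE ZJ (YL ZJ L i₀) := h.N_le_EE i₀ _ (z_mem_EE i₀ _)
    have h2 := h.E_le_O (T := ({i₀} : Set ι)ᶜ) ⟨l, hl⟩ (h.YL_le_CT i₀) h1
    rw [e, mem_bot] at h2
    exact h.z_ne i₀ h2
  rcases (h.coreT hML hKi three
    (fun i j => by
      obtain ⟨g, π, hπ, h1⟩ := tr i j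
      obtain ⟨g', hs⟩ := h.exists_sy cjY hπ
      exact ⟨g', π, hs, h1⟩)).local_or hO with ⟨R, hR, hR2, hn⟩ | ⟨τ, h1, h2⟩
  · exact absurd hn (nl R hR hR2)
  · refine ⟨τ, h1, fun g π hπ => ?_⟩
    obtain ⟨g', hs⟩ := h.exists_sy cjY hπ
    exact h2 g' π hs

/-- **THEOREM S''T over `Zf`.** -/
theorem false_ofT [Nonempty ι] (hML : ML.Final.MLK.{u, u}) (hK : IsKProper G)
    (cjY : ∀ g ∈ normalizer (B : Set G), ∀ i j, g * z i * g⁻¹ = z j → cj g (L i) ≤ YL ZJ L j)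
    (nl : ∀ U : Subgroup G, U ≠ ⊥ → IsPGroup 2 U → ¬ ∀ i, YL ZJ L i ≤ normalizer (U : Set G))
    (three : ∀ i j : ι, ∃ l, l ≠ i ∧ l ≠ j)
    (tr : ∀ i j, ∃ g, ∃ π : Equiv.Perm ι, (∀ l, g * z l * g⁻¹ = z (π l)) ∧ π i = j)
    (nr : ∃ g, ∃ π : Equiv.Perm ι, (∀ l, g * z l * g⁻¹ = z (π l)) ∧ ∃ i j, π i = i ∧ π j ≠ j) : False := by
  obtain ⟨τ, h1, h2⟩ := h.cyc_of hML hK cjY nl three tr
  obtain ⟨g, π, hπ, i, j, hi, hj⟩ := nr
  exact hj (eq_of_fix h1 (h2 g π hπ) hi j)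

end norm

end Zf

end Cfsg.Agent.Omega.EDel

end

section


/-!
# NO-3L, box R, `q = 2`, one class: THEOREM S''T over `Lv`

* **`Lv.false_T`** : the frame `FrL` over `B = C_S(Z_J)` of any level, UNI+ for `N_G(B)`, no 2-group `≠ 1` is normalised by
  `C_G(Z_J)` and all `L i`, `M = ⟨P*(S)⟩` transitive on the blocks, `|Ω₁Z(S)| ≥ 4`: contradiction.
-/

set_option autoImplicit false
set_option linter.unusedSectionVars false

namespace Cfsg.Agent.Omega.NOThreeL.RRed.BFr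

open Subgroup Cfsg Cfsg.Agent.ZN.ChoiceBase
open Cfsg.Agent.ZN (jj zj bau zc zl o2)
open Cfsg.Agent.Omega.OM.Lev.Uni (FrL)
open Cfsg.Agent.Omega.EDel (Zf YL)
open Cfsg.Agent.MinSimple.MinParabolic (IsMinPar)

universe u

variable {G : Type u} [Group G] {S : Sylow 2 G} {M V : Subgroup G} {Pt I : Type} [Fintype Pt] [DecidableEq Pt]
  [DecidableEq I] {D : Pts M V Pt I} {X L J : Subgroup G} {AA : Set (Subgroup G)}

namespace Lv

variable [Finite G] (h : Lv S D X L J AA) {Lb A : Idx D AA → Subgroup G}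
  (fr : FrL (BB (S : Subgroup G) V J) ((S : Subgroup G) ⊓ centralizer (V : Set G)) V X (ZJ V J) Lb h.W
      (fun i => zpowers (D.pe (xx i) (yy i))) (fun i => C D i) A 2)
include fr

theorem mem_Z_iff (i : Idx D AA) (x : G) :
    x ∈ zpowers (D.pe (xx i) (yy i)) ↔ x = 1 ∨ x = D.pe (xx i) (yy i) := by
  have hx : D.pe (xx i) (yy i) ^ 2 = 1 := by
    rw [pow_two]
    exact D.sq (D.pe_mem _ _)
  constructor
  · rintro ⟨n, rfl⟩
    have h2 : D.pe (xx i) (yy i) ^ (2 : ℤ) = 1 := by exact_mod_cast hx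
    rcases Int.even_or_odd' n with ⟨c, rfl | rfl⟩
    · left
      show D.pe (xx i) (yy i) ^ (2 * c) = 1
      rw [zpow_mul, h2, one_zpow]
    · right
      show D.pe (xx i) (yy i) ^ (2 * c + 1) = _
      rw [zpow_add, zpow_mul, h2, one_zpow, one_mul, zpow_one]
  · rintro (rfl | rfl)
    · exact one_mem _
    · exact mem_zpowers _

theorem pe_ne (i : Idx D AA) : D.pe (xx i) (yy i) ≠ 1 := by
  intro e
  have h1 := fr.cardZ i
  change Nat.card ↥(zpowers (D.pe (xx i) (yy i))) = 2 at h1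
  rw [e, zpowers_one_eq_bot, Subgroup.card_bot] at h1
  omega

theorem pe_inj {i j : Idx D AA} (e : D.pe (xx i) (yy i) = D.pe (xx j) (yy j)) : i = j := by
  by_contra hne
  have h1 : D.pe (xx i) (yy i) ∈ h.W i := (fr.blk i).ZV (mem_zpowers _)
  have h2 : D.pe (xx i) (yy i) ∈ C D i := by
    rw [e]
    exact fr.WjC i j hne ((fr.blk j).ZV (mem_zpowers _))
  have h3 : D.pe (xx i) (yy i) ∈ h.W i ⊓ C D i := ⟨h1, h2⟩
  rw [h.dir i, mem_bot] at h3
  exact pe_ne h fr i h3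

theorem conj_pe {g : G} (hg : g ∈ normalizer (BB (S : Subgroup G) V J : Set G)) {i j : Idx D AA}
    (e : cj g (h.W i) = h.W j) : g * D.pe (xx i) (yy i) * g⁻¹ = D.pe (xx j) (yy j) := by
  have e1 : cj g ⁅h.W i, BB (S : Subgroup G) V J⁆ = ⁅cj g (h.W i), cj g (BB (S : Subgroup G) V J)⁆ :=
    Subgroup.map_commutator _ _ _
  have e2 : ⁅h.W i, BB (S : Subgroup G) V J⁆ = zpowers (D.pe (xx i) (yy i)) := fr.comm_W i
  have e3 : ⁅h.W j, BB (S : Subgroup G) V J⁆ = zpowers (D.pe (xx j) (yy j)) := fr.comm_W j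
  rw [e, cj_eq_of_mem_normalizer hg, e2, e3] at e1
  have h1 : g * D.pe (xx i) (yy i) * g⁻¹ ∈ zpowers (D.pe (xx j) (yy j)) := by
    rw [← e1]
    exact ⟨_, mem_zpowers _, rfl⟩
  rcases (mem_Z_iff h fr j _).1 h1 with h2 | h2
  · exfalso
    apply pe_ne h fr i
    have h3 := congrArg (fun t => g⁻¹ * t * g) h2
    simpa [mul_assoc] using h3
  · exact h2

/-- **THEOREM S''T over `Lv`.** -/
theorem false_T [Nonempty Pt] (hML : ML.Final.MLK.{u, u}) (hG : IsCharacteristicTwoType G) (hK : IsKProper G)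
    (syl : ∀ R : Subgroup G, R ≤ centralizer (ZJ V J : Set G) → IsPGroup 2 R → BB (S : Subgroup G) V J ≤ R →
      R ≤ BB (S : Subgroup G) V J)
    (uni : ∀ g ∈ normalizer (BB (S : Subgroup G) V J : Set G), ∀ i, ∃ j, cj g (h.W i) = h.W j ∧
      cj g (Lb i) ≤ YL (ZJ V J) Lb j)
    (nl : ∀ U : Subgroup G, IsPGroup 2 U → centralizer (ZJ V J : Set G) ≤ normalizer (U : Set G) →
      (∀ i, Lb i ≤ normalizer (U : Set G)) → U = ⊥)
    (tr : ∀ x y : Pt, ∃ m ∈ M, D.blk (D.r m x) = D.blk y)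
    (hM : M ≤ sSup {P : Subgroup G | IsMinPar (S : Subgroup G) P ∧ P ≤ M})
    (hz : zc (S : Subgroup G) ≤ ZJ V J) (h4 : 4 ≤ Nat.card (zc (S : Subgroup G))) : False := by
  obtain ⟨i₀, -⟩ := h.exists_idx (Classical.arbitrary Pt)
  have hne : Nonempty (Idx D AA) := ⟨i₀⟩
  have three := h.three tr hz h4
  have zf : Zf (BB (S : Subgroup G) V J) ((S : Subgroup G) ⊓ centralizer (V : Set G)) V X (ZJ V J) Lb h.W
      (fun i => zpowers (D.pe (xx i) (yy i))) (fun i => C D i) A (fun i => D.pe (xx i) (yy i)) :=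
    { hG := hG
      fr := fr
      hz := mem_Z_iff h fr
      Bp := S.isPGroup'.to_le inf_le_left
      syl := syl
      uni := fun g hg i => by
        obtain ⟨j, hj, -⟩ := uni g hg i
        refine ⟨j, ?_, hj.le.trans le_sup_left⟩
        have h1 := conj_pe h fr hg hj
        show cj g (zpowers (D.pe (xx i) (yy i))) = zpowers (D.pe (xx j) (yy j))
        rw [← h1]
        exact MonoidHom.map_zpowers _ _ }
  obtain ⟨τ, h1, h2⟩ := zf.cyc_of hML hK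
    (fun g hg i j hij => by
      obtain ⟨j', e1, e2⟩ := uni g hg i
      have e3 := (conj_pe h fr hg e1).symm.trans hij
      rwa [pe_inj h fr e3] at e2)
    (fun U hU hU2 hn => hU (nl U hU2 (le_sup_left.trans (hn i₀)) fun i => le_sup_right.trans (hn i)))
    three
    (fun i j => by
      obtain ⟨g, hg, hgn, e⟩ := h.hM tr i j
      obtain ⟨π, hπ, -, -⟩ := h.exists_perm hg hgn
      exact ⟨g, π, fun l => conj_pe h fr hgn (hπ l), h.W_inj ((hπ i).symm.trans e)⟩)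
  refine h.not_cyc tr hM hz h4 ⟨τ, h1, fun g hg hgn π hπ => h2 g π fun l => conj_pe h fr hgn (hπ l)⟩

end Lv

end Cfsg.Agent.Omega.NOThreeL.RRed.BFr

end

section


/-!
# NO-3L, box R: the frame over `B` at stage `n` with `hM`

* **`Bd.frLM`** : 947's `Bd.frL` and: `M ∩ N(BL S n)` is transitive on the four-groups `W i`;
* `Bd.frM` : the same for the stage `-1`.
-/

set_option autoImplicit false
set_option linter.unusedSectionVars false

namespace Cfsg.Agent.Omega.NOThreeL.RRed.BFr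

open Subgroup Cfsg Cfsg.Agent.ZN.ChoiceBase
open Cfsg.Agent.ZN (jj zj bau zc)
open Cfsg.Agent.Omega.NO3S.OneLine (BFam bo bo_fam)
open Cfsg.Agent.Omega.NO3S.Level (lev Lev lev_isLev nxt BO)
open Cfsg.Agent.Omega.OM.SwapL (BL ZL)
open Cfsg.Agent.Omega.OM.Lev.Uni (FrL)

universe u

variable {G : Type u} [Group G] {S : Sylow 2 G} {M V : Subgroup G} {Pt I : Type} [Fintype Pt] [DecidableEq Pt]
  [DecidableEq I] {D : Pts M V Pt I}

namespace Bd

variable (h : Bd S D) [Finite G]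
include h

/-- **THE FRAME OVER `B`, stage `n`, with `hM`.** -/
theorem frLM {n : ℕ} (VX : V ≤ zc (lev (S : Subgroup G) n))
    (MK : M ≤ normalizer (lev (S : Subgroup G) n : Set G)) (mv : Mvb D (lev (S : Subgroup G) (n + 1)))
    (tr : ∀ x y : Pt, ∃ m ∈ M, D.blk (D.r m x) = D.blk y) :
    ∃ L W Z C A : Idx D (bo (S : Subgroup G) (zc (lev (S : Subgroup G) n))) → Subgroup G,
    (∀ i, L i ≤ M) ∧ FrL (BL (S : Subgroup G) n) ((S : Subgroup G) ⊓ centralizer (V : Set G)) V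
      (zc (lev (S : Subgroup G) n)) (ZL (S : Subgroup G) n) L W Z C A 2 ∧
    ∀ i j, ∃ g ∈ M, g ∈ normalizer (BL (S : Subgroup G) n : Set G) ∧ cj g (W i) = W j := by
  have hz : Lv.ZcQ (S : Subgroup G) V := fun x h1 h2 h3 =>
    h.zcQ_lev VX MK mv (mem_zc.2 ⟨h1, h2, fun y hy => (h3 y hy).symm⟩)
  obtain ⟨L, A, h1, -, -, h2⟩ := (h.lv VX MK mv).exists_frL hz
  have h3 := (h.lv VX MK mv).hM tr
  rw [BB, h.ZJ_lev VX MK mv] at h2 h3
  exact ⟨L, _, _, _, A, fun i => (h1 i).trans ((h.lv VX MK mv).XX_le_M i), h2, h3⟩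

/-- **THE FRAME OVER `B`, stage `-1`, with `hM`.** -/
theorem frM [Nonempty Pt] (mv : Mvb D (jj (S : Subgroup G)))
    (tr : ∀ x y : Pt, ∃ m ∈ M, D.blk (D.r m x) = D.blk y) :
    ∃ L W Z C A : Idx D (AA (S : Subgroup G)) → Subgroup G,
    (∀ i, L i ≤ M) ∧ OM.Uni.Fr (bau (S : Subgroup G)) ((S : Subgroup G) ⊓ centralizer (V : Set G)) V
      (zj (S : Subgroup G)) L W Z C A 2 (mm (S : Subgroup G)) ∧
    ∀ i j, ∃ g ∈ M, g ∈ normalizer (bau (S : Subgroup G) : Set G) ∧ cj g (W i) = W j := by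
  have hz : Lv.ZcQ (S : Subgroup G) V := fun x h1 h2 h3 =>
    h.zcQ_neg mv (mem_zc.2 ⟨h1, h2, fun y hy => (h3 y hy).symm⟩)
  obtain ⟨L, A, h1, hA, -, h2⟩ := (h.lv_neg mv).exists_frL hz
  have h3 := (h.lv_neg mv).hM tr
  rw [BB, h.ZJ_neg mv] at h2 h3
  refine ⟨L, (h.lv_neg mv).W, fun i => zpowers (D.pe (xx i) (yy i)), fun i => Lv.C D i, A, fun i =>
    (h1 i).trans ((h.lv_neg mv).XX_le_M i), ?_, h3⟩
  exact
    { max := OM.Uni.mx_sylow S
      blk := h2.blk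
      cardZ := h2.cardZ
      QB := h2.QB
      VQ := h2.VQ
      el := V_elem D
      mem_Q := h2.mem_Q
      zcQ := h2.zcQ
      mem_ZJ := h2.mem_ZJ
      LV := h2.LV
      LQ := h2.LQ
      WV := h2.WV
      CV := h2.CV
      WC := h2.WC
      dir := h2.dir
      C0 := h2.C0
      WjC := h2.WjC
      BC := h2.BC
      LC := h2.LC
      AB := h2.AB
      Ael := fun i => (hA i).1
      Am := fun i => (mm_eq (hA i)).symm
      Ane := h2.Ane
      AC := h2.AC }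

end Bd

end Cfsg.Agent.Omega.NOThreeL.RRed.BFr

end

section


/-!
# THEOREM S''T (helper164 #27334) over `Zf`

* `Zf.coreR` : `CoreR` (no `sw`);
* **`Zf.local_fix`** : transitive symmetries, one of them fixes a pair and moves another one: the `Y i = ⟨C_G(ZJ), L i⟩`
  normalise a common nontrivial 2-group;
* **`Zf.local_comm`** : or the symmetries commute and act semiregularly;
* `Zf.false_fix`, `Zf.false_comm` : the same with `nl`.
-/

set_option autoImplicit false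
set_option linter.unusedSectionVars false

namespace Cfsg.Agent.Omega.EDel

open Subgroup Cfsg Cfsg.Agent.ZN.ChoiceBase
open Cfsg.Agent.ZN (zc zl o2 jj)
open Cfsg.Agent.Omega.EK3 (CT mem_CT CT_mono)
open Cfsg.Agent.Omega.EK3.StarE (EE EE_le EE_mono le_EE norm_EE cj_le_EE cj_iSup_le)
open Cfsg.Agent.Omega.ESym.CoreS (EI Sy Core)
open Cfsg.Agent.Omega.ESym.CoreR (CoreR)
open Cfsg.Agent.ZN.ChoiceSit (Syl)

universe u

variable {G : Type u} [Group G] [Finite G] {ι : Type} [Finite ι] {B Q V X ZJ : Subgroup G}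
  {L W Z C A : ι → Subgroup G} {z : ι → G}

namespace Zf

variable (h : Zf B Q V X ZJ L W Z C A z)
include h

/-- **`CoreR` over `Zf`** -/
theorem coreR [Nonempty ι] (hML : ML.Final.MLK.{u, u}) (hK : ∀ i, IsKGroup (YL ZJ L i))
    (three : ∀ i j : ι, ∃ l, l ≠ i ∧ l ≠ j)
    (tr : ∀ i j, ∃ g, ∃ σ : Equiv.Perm ι,
      Sy (o2 (centralizer (ZJ : Set G))) (YL ZJ L) (NL ZJ L z) g σ ∧ σ i = j) :
    CoreR (o2 (centralizer (ZJ : Set G))) (centralizer (ZJ : Set G)) ZJ (YL ZJ L) (NL ZJ L z) where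
  two := MinSimple.VModule.o2_isPGroup _
  OY i := (Cfsg.Agent.ZN.o2_le _).trans (D_le_YL i)
  OZ := Cfsg.Agent.ZN.o2_le _
  DY := D_le_YL
  three := three
  ne := inferInstance
  eab I hI := h.EI_el h.YL_le_CT hI
  NE i := (h.N_le_EE i _).trans (EE_mono (le_iSup (fun i : ({i} : Set ι) => YL ZJ L i) ⟨i, rfl⟩))
  YN i := norm_EE _ _
  YQ i := h.YQ (D_le_YL i) (h.YL_le_CT i)
  no i := by
    obtain ⟨l, hl, -⟩ := three i i
    exact h.no hML (hK i) (D_le_YL i) (h.YL_le_CT i) ⟨l, hl⟩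
  gen i K hKY hYK hm := by
    obtain ⟨l, hl, -⟩ := three i i
    exact h.gen ⟨l, hl⟩ hKY hYK hm
  tr := tr

/-- `O₂(C_G(ZJ)) ≠ 1` -/
theorem o2_D_ne [Nonempty ι] (three : ∀ i j : ι, ∃ l, l ≠ i ∧ l ≠ j) : o2 (centralizer (ZJ : Set G)) ≠ ⊥ := by
  obtain ⟨i₀⟩ := ‹Nonempty ι›
  intro e
  obtain ⟨l, hl, -⟩ := three i₀ i₀
  have h1 : z i₀ ∈ EE ZJ (YL ZJ L i₀) := h.N_le_EE i₀ _ (z_mem_EE i₀ _)
  have h2 := h.E_le_O (T := ({i₀} : Set ι)ᶜ) ⟨l, hl⟩ (h.YL_le_CT i₀) h1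
  rw [e, mem_bot] at h2
  exact h.z_ne i₀ h2

/-- some `Y i = G`, or all the `Y i` are `K`-groups -/
theorem local_of_top (three : ∀ i j : ι, ∃ l, l ≠ i ∧ l ≠ j) {i : ι} (e : YL ZJ L i = ⊤) :
    ∃ R : Subgroup G, R ≠ ⊥ ∧ IsPGroup 2 R ∧ ∀ j, YL ZJ L j ≤ normalizer (R : Set G) := by
  obtain ⟨l, hl, -⟩ := three i i
  have h1 : ∀ g : G, g * z l = z l * g := fun g =>
    mem_CT.1 (h.YL_le_CT i (by rw [e]; exact mem_top g)) l hl
  refine ⟨zpowers (z l), fun e1 => h.z_ne l (zpowers_eq_bot.1 e1), ?_, fun j g _ => ?_⟩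
  · refine h.Bp.to_le (zpowers_le.2 ?_)
    have h2 : z l ∈ zc B := by
      rw [h.fr.zcB]
      exact h.z_mem l
    exact (mem_zc.1 h2).1
  · rw [mem_normalizer_iff_cj]
    refine cj_eq_of_mem_normalizer (centralizer_le_normalizer _ (mem_centralizer_iff.2 fun x hx => ?_))
    obtain ⟨n, rfl⟩ := hx
    exact ((show Commute g (z l) from h1 g).zpow_right n).eq.symm

section main

variable [Nonempty ι] (hML : ML.Final.MLK.{u, u}) (hK : IsKProper G)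
  (cjY : ∀ g ∈ normalizer (B : Set G), ∀ i j, g * z i * g⁻¹ = z j → cj g (L i) ≤ YL ZJ L j)
  (three : ∀ i j : ι, ∃ l, l ≠ i ∧ l ≠ j)
  (tr : ∀ i j, ∃ g, ∃ π : Equiv.Perm ι, (∀ l, g * z l * g⁻¹ = z (π l)) ∧ π i = j)

include hML hK cjY three tr

/-- **one symmetry which fixes a pair and moves another one** -/
theorem local_fix
    (fix : ∃ g, ∃ π : Equiv.Perm ι, (∀ l, g * z l * g⁻¹ = z (π l)) ∧ ∃ i₀ j₀, π i₀ = i₀ ∧ π j₀ ≠ j₀) :
    ∃ R : Subgroup G, R ≠ ⊥ ∧ IsPGroup 2 R ∧ ∀ j, YL ZJ L j ≤ normalizer (R : Set G) := by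
  by_cases hT : ∃ i, YL ZJ L i = ⊤
  · obtain ⟨i, e⟩ := hT
    exact h.local_of_top three e
  · push Not at hT
    refine (h.coreR hML (fun i => hK _ (hT i)) three (fun i j => ?_)).local_of_fix (h.o2_D_ne three) ?_
    · obtain ⟨g, π, hπ, h1⟩ := tr i j
      obtain ⟨g', hs⟩ := h.exists_sy cjY hπ
      exact ⟨g', π, hs, h1⟩
    · obtain ⟨g, π, hπ, i₀, j₀, h1, h2⟩ := fix
      obtain ⟨g', hs⟩ := h.exists_sy cjY hπ
      exact ⟨g', π, hs, i₀, j₀, h1, h2⟩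

/-- **or the symmetries commute and act semiregularly** -/
theorem local_comm :
    (∃ R : Subgroup G, R ≠ ⊥ ∧ IsPGroup 2 R ∧ ∀ j, YL ZJ L j ≤ normalizer (R : Set G)) ∨
      (∀ (g g' : G) (π π' : Equiv.Perm ι), (∀ l, g * z l * g⁻¹ = z (π l)) → (∀ l, g' * z l * g'⁻¹ = z (π' l)) →
        π * π' = π' * π) ∧
      ∀ (g : G) (π : Equiv.Perm ι), (∀ l, g * z l * g⁻¹ = z (π l)) → ∀ i, π i = i → π = 1 := by
  by_cases hT : ∃ i, YL ZJ L i = ⊤
  · obtain ⟨i, e⟩ := hT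
    exact Or.inl (h.local_of_top three e)
  · push Not at hT
    rcases (h.coreR hML (fun i => hK _ (hT i)) three (fun i j => by
      obtain ⟨g, π, hπ, h1⟩ := tr i j
      obtain ⟨g', hs⟩ := h.exists_sy cjY hπ
      exact ⟨g', π, hs, h1⟩)).local_or_comm (h.o2_D_ne three) with h1 | ⟨h1, h2⟩
    · exact Or.inl h1
    · refine Or.inr ⟨fun g g' π π' hπ hπ' => ?_, fun g π hπ i hi => ?_⟩
      · obtain ⟨g₁, hs⟩ := h.exists_sy cjY hπ
        obtain ⟨g₂, hs'⟩ := h.exists_sy cjY hπ'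
        exact h1 g₁ g₂ π π' hs hs'
      · obtain ⟨g₁, hs⟩ := h.exists_sy cjY hπ
        exact h2 g₁ π hs i hi

theorem false_fix (nl : ∀ U : Subgroup G, U ≠ ⊥ → IsPGroup 2 U → ¬ ∀ i, YL ZJ L i ≤ normalizer (U : Set G))
    (fix : ∃ g, ∃ π : Equiv.Perm ι, (∀ l, g * z l * g⁻¹ = z (π l)) ∧ ∃ i₀ j₀, π i₀ = i₀ ∧ π j₀ ≠ j₀) : False := by
  obtain ⟨R, h1, h2, h3⟩ := h.local_fix hML hK cjY three tr fix
  exact nl R h1 h2 h3

theorem false_comm (nl : ∀ U : Subgroup G, U ≠ ⊥ → IsPGroup 2 U → ¬ ∀ i, YL ZJ L i ≤ normalizer (U : Set G)) :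
    (∀ (g g' : G) (π π' : Equiv.Perm ι), (∀ l, g * z l * g⁻¹ = z (π l)) → (∀ l, g' * z l * g'⁻¹ = z (π' l)) →
        π * π' = π' * π) ∧
      ∀ (g : G) (π : Equiv.Perm ι), (∀ l, g * z l * g⁻¹ = z (π l)) → ∀ i, π i = i → π = 1 := by
  rcases h.local_comm hML hK cjY three tr with ⟨R, h1, h2, h3⟩ | h1
  · exact absurd h3 (nl R h1 h2)
  · exact h1

end main

end Zf

end Cfsg.Agent.Omega.EDel

end
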