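import Cfsg.Agent.Mrg.Omega.EDel.GenS
import Cfsg.Agent.Mrg.Omega.ML.MinIrr


/-!
# THEOREM DELTA: `(NO)` for `O = O₂(C_G(ZJ))` on `N_i = ⟨z_i^(Y_i)⟩`, from (ML)

`D ≤ Y ≤ C_G(z_l : l ≠ i)`: `B` is Sylow in `Y`, `C_Y(z_i) = D`.
-/

set_option autoImplicit false
set_option linter.unusedSectionVars false

namespace Cfsg.Agent.Omega.EDel

open Subgroup Cfsg Cfsg.Agent.ZN.ChoiceBase
open Cfsg.Agent.ZN (zc zl o2 jj)
open Cfsg.Agent.Omega.EK3 (CT mem_CT CT_mono)
open Cfsg.Agent.Omega.EK3.StarE (EE EE_le norm_EE)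
open Cfsg.Agent.ZN.ChoiceSit (syl_not_dvd)

universe u

variable {G : Type u} [Group G] {ι : Type} {B Q V X ZJ : Subgroup G} {L W Z C A : ι → Subgroup G} {z : ι → G}

namespace Zf

variable (h : Zf B Q V X ZJ L W Z C A z) [Finite G] [Finite ι]
include h

/-- **`(NO)`** -/
theorem no (hML : ML.Final.MLK.{u, u}) {i : ι} {Y : Subgroup G} (hK : IsKGroup Y)
    (hDY : centralizer (ZJ : Set G) ≤ Y) (hYT : Y ≤ CT z ({i} : Set ι)ᶜ) (h2 : ∃ l, l ≠ i) :
    EK3.Rank.NoOn (o2 (centralizer (ZJ : Set G))) (EE (zpowers (z i)) Y) := by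
  intro F hF hFQ
  have hbot : normalizer ((⊥ : Subgroup G) : Set G) = ⊤ := normalizer_eq_top _
  have hO : o2 (centralizer (ZJ : Set G)) ≤ centralizer (ZJ : Set G) := Cfsg.Agent.ZN.o2_le _
  have hcz : ∀ g ∈ centralizer (ZJ : Set G), g * z i = z i * g := fun g hg =>
    (mem_centralizer_iff.1 hg _ (h.z_mem i)).symm
  have hT : (({i} : Set ι)ᶜ).Nonempty := h2
  have hsq : ∀ x ∈ EE (zpowers (z i)) Y, x ^ 2 = 1 := fun x hx =>
    (h.E_el hT hYT).2 x (h.N_le_EE i Y hx)
  have key := hML.grp hK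
    (C := Y) (W := EE (zpowers (z i)) Y) (Y := ⊥) (T := B) (Q := o2 (centralizer (ZJ : Set G))) (A := F) (w := z i)
    { nW := norm_EE _ _
      nY := by rw [hbot]; exact le_top
      YW := bot_le
      WY := by rw [hbot]; exact le_top
      sq := fun x hx => by rw [← pow_two, hsq x hx]; exact one_mem _
      mem := z_mem_EE i Y
      gen := by
        intro U hzU _ hCU
        refine EE_le fun p hp => ?_
        have h4 := cj_mono p (zpowers_le.2 hzU)
        rwa [cj_eq_of_mem_normalizer (hCU hp)] at h4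
      TC := h.B_le_D.trans hDY
      two := h.Bp
      odd := syl_not_dvd (h.Syl_Y hDY hYT)
      fixT := fun t ht => by
        rw [hcz t (h.B_le_D ht)]
        simp
      QC := hO.trans hDY
      Q2 := MinSimple.VModule.o2_isPGroup _
      fixQ := fun q hq => by
        rw [hcz q (hO hq)]
        simp
      nrmQ := fun g hg h0 q hq => by
        have h1 : g * z i * g⁻¹ = z i := mul_inv_eq_one.1 (mem_bot.1 h0)
        have h2 : g ∈ centralizer (ZJ : Set G) := by
          refine h.mem_D fun l => ?_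
          by_cases hl : l = i
          · rw [hl]
            exact mul_inv_eq_iff_eq_mul.1 h1
          · exact mem_CT.1 (hYT hg) l hl
        exact (mem_normalizer_iff.1 (MinSimple.VModule.le_normalizer_o2 _ h2) q).1 hq
      AQ := hFQ
      Asq := fun a ha x hx => by
        have h1 : a ^ 2 = 1 := hF.2 a ha
        have e : a * (a * x * a⁻¹) * a⁻¹ * x⁻¹ = (a ^ 2) * x * (a ^ 2)⁻¹ * x⁻¹ := by simp [pow_two, mul_assoc]
        rw [e, h1]
        simp }
    (KA := F ⊓ centralizer (EE (zpowers (z i)) Y : Set G)) (CW := EE (zpowers (z i)) Y ⊓ centralizer (F : Set G))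
    (fun a => by
      rw [mem_inf, mem_centralizer_iff]
      refine and_congr_right fun _ => forall₂_congr fun x _ => ?_
      rw [mem_bot, mul_inv_eq_one, mul_inv_eq_iff_eq_mul]
      exact eq_comm)
    (fun x => by
      rw [mem_inf, mem_centralizer_iff]
      refine and_congr_right fun _ => forall₂_congr fun a _ => ?_
      rw [mem_bot, mul_inv_eq_one, mul_inv_eq_iff_eq_mul])
  rwa [inf_relIndex_left, inf_relIndex_left] at key

omit [Finite G] [Finite ι] in
/-- `C_T ≠ G` for `T ≠ ∅` if no nontrivial 2-subgroup of `ZJ` is normal in `G` -/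
theorem CT_ne_top {T : Set ι} (hT : T.Nonempty) (hn : ∀ U : Subgroup G, U ≤ ZJ → U.Normal → U = ⊥) :
    CT z T ≠ ⊤ := by
  obtain ⟨l, hl⟩ := hT
  intro e
  have h1 : ∀ g : G, g * z l = z l * g := fun g => mem_CT.1 (by rw [e]; exact mem_top g) l hl
  have h2 : (zpowers (z l)).Normal := by
    refine ⟨fun x hx g => ?_⟩
    obtain ⟨n, rfl⟩ := hx
    have h3 : Commute g (z l ^ n) := (show Commute g (z l) from h1 g).zpow_right n
    change g * z l ^ n * g⁻¹ ∈ zpowers (z l)
    rw [h3.eq, mul_inv_cancel_right]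
    exact zpow_mem (mem_zpowers _) n
  have h3 := hn _ (zpowers_le.2 (h.z_mem l)) h2
  exact h.z_ne l (zpowers_eq_bot.1 h3)

/-- `(NO)` for a `K`-proper group -/
theorem no' (hML : ML.Final.MLK.{u, u}) (hK : IsKProper G)
    (hn : ∀ U : Subgroup G, U ≤ ZJ → U.Normal → U = ⊥) {i : ι} {Y : Subgroup G}
    (hDY : centralizer (ZJ : Set G) ≤ Y) (hYT : Y ≤ CT z ({i} : Set ι)ᶜ) (h2 : ∃ l, l ≠ i) :
    EK3.Rank.NoOn (o2 (centralizer (ZJ : Set G))) (EE (zpowers (z i)) Y) :=
  h.no hML (hK _ fun e => h.CT_ne_top (T := ({i} : Set ι)ᶜ) h2 hn (top_le_iff.1 (e ▸ hYT))) hDY hYT h2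

end Zf

end Cfsg.Agent.Omega.EDel
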