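import Cfsg.Agent.Mrg.Omega.EDel.GenS
import Cfsg.Agent.Mrg.Omega.EDel.NoOf
import Cfsg.Agent.Mrg.Omega.ESOne.Base
import Cfsg.Agent.Mrg.Omega.Node.MulG
import Cfsg.Agent.Mrg.Omega.OM.Lev.SFr
import Cfsg.Agent.Mrg.Omega.Node.SymG
import Cfsg.Agent.Mrg.Omega.EK3.Rank
import Cfsg.Agent.Mrg.Omega.NO3S.EThree.Frame
import Cfsg.Agent.Omega.NoFF.Basic
import Cfsg.Agent.Mrg.Omega.OM.SwapL.MainZ

section


/-!
# THEOREM S'' : (E) is impossible for all symmetric types with at least three light pairs, over `HypL`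

`#23621` (helper787), `#23971` (helper497), `#24003` (helper164), `#23983` (helper11), `#23986` (helper7), `#24014` (helper647).

* `Prs.three` : at least three light pairs if `k ≥ 2` or `m ≥ 3`;
* `noE_L` : `HypF`, a stage of `HypL`: `¬ NLoc (KZ B ZJ)`;
* `eS_three` : `ES K (2 ≤ k ∨ 3 ≤ m)`; `eSH_three` : `ESH K HypLP (2 ≤ k ∨ 3 ≤ m)`.
-/

set_option autoImplicit false
set_option linter.unusedSectionVars false

namespace Cfsg.Agent.Omega.EDel.FinalL

open Subgroup Cfsg Cfsg.Agent.ZN.ChoiceBase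
open Cfsg.Agent.ZN (jj zj bau zc zl o2)
open Cfsg.Agent.Omega.FFThm (ActsSym SymK SymKM)
open Cfsg.Agent.Omega.FrameFF (cv)
open Cfsg.Agent.Omega.SQ1.FFSym (u)
open Cfsg.Agent.Omega.ESym (Prs prs_lev)
open Cfsg.Agent.Omega.ESym.Light (LF exists_light)
open Cfsg.Agent.Omega.ESOne
open Cfsg.Agent.Omega.NO3S (HypF HypL)
open Cfsg.Agent.Omega.Frame (Cls)
open Cfsg.Agent.Omega.Node.MultiOf
open Cfsg.Agent.Omega.Node.SymOf (MulS ES)
open Cfsg.Agent.Omega.Node.SymG (MulSG ESH)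
open Cfsg.Agent.Omega.OM.LevD (LB)

universe v

section prs

variable {G : Type v} [Group G] {k n : ℕ} {S H V : Subgroup G} {o : Fin n} {e : G → Fin k → Fin n → ZMod 2}
  {ι : Type} {J : ι → Fin k} {X Y : ι → Fin n}

/-- **at least three light pairs** -/
theorem prs_three (h : Prs S H V o e J X Y) (hn : 4 ≤ n) (hkn : 2 ≤ k ∨ 6 ≤ n) (i j : ι) :
    ∃ l, l ≠ i ∧ l ≠ j := by
  classical
  by_cases hJ : J i = J j
  · rcases hkn with hk | hn6
    · have : Nontrivial (Fin k) := Fin.nontrivial_iff_two_le.2 hk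
      obtain ⟨j', hj'⟩ := exists_ne (J i)
      have : Nontrivial (Fin n) := Fin.nontrivial_iff_two_le.2 (by omega)
      obtain ⟨x, hx⟩ := exists_ne o
      obtain ⟨l, hl, -⟩ := h.cov j' x hx
      refine ⟨l, ?_, ?_⟩
      · rintro rfl; exact hj' hl.symm
      · rintro rfl; exact hj' (hl.symm.trans hJ.symm)
    · have h1 : ∃ x : Fin n, x ∉ ({o, X i, Y i, X j, Y j} : Finset (Fin n)) := by
        by_contra hcon
        push Not at hcon
        have h2 : (Finset.univ : Finset (Fin n)) ⊆ {o, X i, Y i, X j, Y j} := fun x _ => hcon x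
        have h3 := Finset.card_le_card h2
        rw [Finset.card_univ, Fintype.card_fin] at h3
        have h4 := h3.trans (Finset.card_le_five (a := o) (b := X i) (c := Y i) (d := X j) (e := Y j))
        omega
      obtain ⟨x, hx⟩ := h1
      simp only [Finset.mem_insert, Finset.mem_singleton, not_or] at hx
      obtain ⟨l, -, hl⟩ := h.cov (J i) x hx.1
      refine ⟨l, ?_, ?_⟩
      · rintro rfl
        rcases hl with h5 | h5
        · exact hx.2.1 h5.symm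
        · exact hx.2.2.1 h5.symm
      · rintro rfl
        rcases hl with h5 | h5
        · exact hx.2.2.2.1 h5.symm
        · exact hx.2.2.2.2 h5.symm
  · obtain ⟨l, hl, hJl⟩ := h.brother hn i
    exact ⟨l, hl, fun e => hJ (by rw [← e]; exact hJl.symm)⟩

end prs

section main

variable {G : Type v} [Group G] [Finite G] {S : Sylow 2 G} {P K B ZJ : Subgroup G} {k m : ℕ}
  {N : SymKM (S : Subgroup G) P (zl (S : Subgroup G) P) (cv (S : Subgroup G) P) k m}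

omit [Finite G] in
theorem mem_zpowers_sq {x d : G} (hd : d ^ 2 = 1) : x ∈ zpowers d ↔ x = 1 ∨ x = d := by
  constructor
  · intro hx
    obtain ⟨n, rfl⟩ := mem_zpowers_iff.1 hx
    have h2 : d ^ (2 : ℤ) = 1 := by
      have : d ^ ((2 : ℕ) : ℤ) = 1 := by rw [zpow_natCast]; exact hd
      exact this
    rcases Int.even_or_odd' n with ⟨c, h | h⟩
    · left
      rw [h, zpow_mul, h2, one_zpow]
    · right
      rw [h, zpow_add, zpow_mul, h2, one_zpow, one_mul, zpow_one]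
  · rintro (rfl | rfl)
    · exact one_mem _
    · exact mem_zpowers x

/-- **the small frame `Sk0` from the light frame `LF`** -/
theorem sk0 (F : LF S P B ZJ N) (hG : IsCharacteristicTwoType G) (lb : LB S K B ZJ) :
    Sk0 S K B ZJ (o2 P) (zl (S : Subgroup G) P) F.L (fun i => F.sy.NN (F.J i) 0 (F.X i) (F.X' i))
      (fun i => zpowers (u P (zl (S : Subgroup G) P) ⊥ N.e (F.J i) (F.X i) (F.X' i)))
      (OM.FrSym.CC fun i => F.sy.NN (F.J i) 0 (F.X i) (F.X' i))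
      (fun i => u P (zl (S : Subgroup G) P) ⊥ N.e (F.J i) (F.X i) (F.X' i)) where
  char2 := hG
  lb := lb
  fr := OM.Lev.Main.toFg F.frl
  hz := fun i _ => mem_zpowers_sq ((OM.Lev.Main.toFg F.frl).Vsq ((OM.Lev.Main.toFg F.frl).ZV i (mem_zpowers _)))
  uni := F.uni

/-- **THEOREM S''**, light frame -/
theorem false_of_LF (hML : ML.Final.MLK.{v, v}) (h : HypF S P) (F : LF S P B ZJ N) (lb : LB S K B ZJ)
    (hm : 2 ≤ m) (hk : 0 < k) (hkm : 2 ≤ k ∨ 3 ≤ m) (hN : NLoc (KZ B ZJ)) : False := by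
  have hG := h.ctx.char2
  have hfin : Finite F.ι := F.fi
  have h4 : 2 ^ 2 ≤ 2 ^ m := Nat.pow_le_pow_right (by norm_num) hm
  have hP := prs_lev F.sy F.ch
  have hs := sk0 F hG lb
  have hkn : 2 ≤ k ∨ 6 ≤ 2 ^ m + 1 := by
    rcases hkm with h1 | h1
    · exact Or.inl h1
    · right
      have : 2 ^ 3 ≤ 2 ^ m := Nat.pow_le_pow_right (by norm_num) h1
      omega
  have three := prs_three hP (by omega) hkn
  have hne : Nonempty F.ι := by
    have : Nontrivial (Fin (2 ^ m + 1)) := Fin.nontrivial_iff_two_le.2 (by omega)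
    obtain ⟨x, hx⟩ := exists_ne (0 : Fin (2 ^ m + 1))
    obtain ⟨l, -, -⟩ := hP.cov ⟨0, hk⟩ x hx
    exact ⟨l⟩
  have hzf := Zf.of_lb hG lb F.frl hs.hz F.uni
  have hju : ∀ j : F.ι, ({j} : Set F.ι) ≠ Set.univ := by
    intro j e
    obtain ⟨l, hl, -⟩ := three j j
    exact hl (Set.mem_singleton_iff.1 (e ▸ Set.mem_univ l))
  have hn : ∀ U : Subgroup G, U ≤ ZJ → U.Normal → U = ⊥ := by
    intro U hU hUn
    have : IsSimpleGroup G := h.ctx.simple
    rcases hUn.eq_bot_or_eq_top with h1 | h1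
    · exact h1
    · exfalso
      apply h.ctx.nonComm
      have h2 : ∀ x : G, x ∈ zl (S : Subgroup G) P := fun x => hs.fr.ZJV (hU (h1 ▸ mem_top x))
      exact ⟨⟨fun x y => hs.fr.Vc (h2 x) (h2 y)⟩⟩
  refine hs.false_of hN three (fun i => ?_) (fun j K' h1 h2 h3 => hs.gen j (hju j) K' h1 h2 h3)
    (fun i j => ?_) (fun i j hij => ?_)
  · obtain ⟨l, hl, -⟩ := three i i
    exact hzf.no' hML h.ctx.kproper hn (D_le_Y i) (hs.Y_le_CT (by simp)) ⟨l, hl⟩
  · obtain ⟨g, -, ρ, h1, h2⟩ := hP.trans i j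
    exact ⟨g, ρ, h2, h1⟩
  · rcases hP.sw (by omega) hij with ⟨g, -, ρ, h1, h2, h3⟩ | ⟨g, -, ρ, h1, h2, h3⟩
    · exact ⟨g, ρ, h3, Or.inl ⟨h1, h2⟩⟩
    · exact ⟨g, ρ, h3, Or.inr ⟨h1, h2⟩⟩

/-- **(E) is impossible**, stages of `HypL` -/
theorem noE_L (hML : ML.Final.MLK.{v, v}) (h : HypF S P) (st : StgP S P K B ZJ) (hk : 0 < k) (hm : 2 ≤ m)
    (hkm : 2 ≤ k ∨ 3 ≤ m)
    (N : SymKM (S : Subgroup G) P (zl (S : Subgroup G) P) (cv (S : Subgroup G) P) k m) : ¬ NLoc (KZ B ZJ) := by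
  intro hN
  obtain ⟨F⟩ := exists_light h.toHypN st hk hm N
  exact false_of_LF hML h F st.lb hm hk hkm hN

end main

/-- **`ES K`, at least three light pairs** (in particular `SymBigL`, `SymManyL`) -/
theorem eS_three (hML : ML.Final.MLK.{v, v}) (K : Cls.{v}) :
    ES K fun k m => 2 ≤ k ∨ 3 ≤ m := by
  intro G _ _ _ S P K' B ZJ ι L W Z C k m hk hm hkm hM hN
  obtain ⟨N⟩ := hM.sym
  exact absurd hN (noE_L hML hM.hyp.toHypF hM.stg hk hm hkm N)

end Cfsg.Agent.Omega.EDel.FinalL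

end

section


/-!
# THEOREM S'': the fields `two`, `OY`, `OZ`, `DY`, `NE`, `YN`, `YQ` of `ESym.CoreS.Core` from the frame `Fg`

`D = C_G(ZJ)`, `O = O₂(D)`, `Y i = ⟨D, L i⟩`, `N i = ⟨Z_i^(Y i)⟩`; frame `Fg B Q V ZJ L W Z C q` (any `q`, any index type).

* `YL`, `NL` : `Y i`, `N i`; `NL_eq_V` : `N i = NoFF.Basic.V (Z i) (Y i)`;
* `stab` : `C_{Y i}(Z i) ≤ D`; `cent_of_norm` : `Y i` centralises `Z l` for `l ≠ i`;
* `two_`, `OY_`, `OZ_`, `DY_`, `NE_`, `YN_`, `YQ_` : the fields; `inf_eq_o2` : `O ⊓ C(N i) = O₂(C_{Y i}(N i))`;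
* `YQ_of` : the abstract form.
-/

set_option autoImplicit false
set_option linter.unusedSectionVars false

namespace Cfsg.Agent.Omega.EDel.Flds

open Subgroup Cfsg Cfsg.Agent.ZN.ChoiceBase
open Cfsg.Agent.ZN (zc zl o2)
open Cfsg.Agent.ZN.ChoiceSit (Syl)
open Cfsg.Agent.Omega.NO3S.EThree.Frame (Fg)
open Cfsg.Agent.Omega.EK3.StarE (EE cj_le_EE EE_le EE_mono le_EE norm_EE)
open Cfsg.Agent.Omega.ESym.CoreS (EI)
open Cfsg.Agent.MinSimple.VModule (le_normalizer_o2 o2_isPGroup le_o2 o2_le)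

universe u

variable {G : Type u} [Group G] {ι : Type*}

/-- `Y i = ⟨C_G(ZJ), L i⟩` -/
def YL (ZJ : Subgroup G) (L : ι → Subgroup G) (i : ι) : Subgroup G := centralizer (ZJ : Set G) ⊔ L i

/-- `N i = ⟨Z_i^(Y i)⟩` -/
def NL (ZJ : Subgroup G) (L Z : ι → Subgroup G) (i : ι) : Subgroup G := ⨆ y : YL ZJ L i, cj (y : G) (Z i)

theorem NL_eq_EE (ZJ : Subgroup G) (L Z : ι → Subgroup G) (i : ι) : NL ZJ L Z i = EE (Z i) (YL ZJ L i) := rfl

theorem NL_eq_V (ZJ : Subgroup G) (L Z : ι → Subgroup G) (i : ι) :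
    NL ZJ L Z i = NoFF.Basic.V (Z i) (YL ZJ L i) :=
  le_antisymm (EE_le fun _ hy => NoFF.Basic.Z_le_V hy) (NoFF.Basic.V_le fun _ hy => cj_le_EE hy)

theorem Z_le_NL (ZJ : Subgroup G) (L Z : ι → Subgroup G) (i : ι) : Z i ≤ NL ZJ L Z i := le_EE _ _

theorem DY_ (ZJ : Subgroup G) (L : ι → Subgroup G) (i : ι) : centralizer (ZJ : Set G) ≤ YL ZJ L i := le_sup_left

theorem L_le_YL (ZJ : Subgroup G) (L : ι → Subgroup G) (i : ι) : L i ≤ YL ZJ L i := le_sup_right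

theorem YN_ (ZJ : Subgroup G) (L Z : ι → Subgroup G) (i : ι) :
    YL ZJ L i ≤ normalizer (NL ZJ L Z i : Set G) := norm_EE _ _

theorem D_norm (ZJ : Subgroup G) (L Z : ι → Subgroup G) (i : ι) :
    centralizer (ZJ : Set G) ≤ normalizer (NL ZJ L Z i : Set G) := (DY_ ZJ L i).trans (YN_ ZJ L Z i)

theorem EI_single (ZJ : Subgroup G) (Y : ι → Subgroup G) (i : ι) : EE ZJ (Y i) ≤ EI ZJ Y {i} :=
  EE_mono (le_iSup (fun l : ({i} : Set ι) => Y l) ⟨i, rfl⟩)

theorem EI_eq_EE (ZJ : Subgroup G) (Y : ι → Subgroup G) (I : Set ι) : EI ZJ Y I = EE ZJ (⨆ i : I, Y i) := rfl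

section fin

variable [Finite G]

theorem two_ (ZJ : Subgroup G) : IsPGroup 2 (o2 (centralizer (ZJ : Set G))) := o2_isPGroup _

theorem OD_ (ZJ : Subgroup G) : o2 (centralizer (ZJ : Set G)) ≤ centralizer (ZJ : Set G) := o2_le _

theorem OZ_ (ZJ : Subgroup G) : o2 (centralizer (ZJ : Set G)) ≤ centralizer (ZJ : Set G) := o2_le _

theorem OY_ (ZJ : Subgroup G) (L : ι → Subgroup G) (i : ι) : o2 (centralizer (ZJ : Set G)) ≤ YL ZJ L i :=
  (OD_ ZJ).trans (DY_ ZJ L i)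

/-- an element normalising `X` normalises `O₂(X)` -/
theorem cj_o2_of {X : Subgroup G} {y : G} (hy : cj y X = X) : cj y (o2 X) = o2 X := by
  refine Subgroup.eq_of_le_of_card_ge (le_o2 ?_ ((o2_isPGroup X).map _) ?_) (card_cj _ _).ge
  · have := cj_mono y (o2_le X)
    rwa [hy] at this
  · have := cj_mono y (le_normalizer_o2 X)
    rwa [cj_normalizer, hy] at this

/-- `C_{Y}(N) ≤ D`: `O₂(D) ⊓ C(N) = O₂(C_Y(N))`. -/
theorem inf_eq_of {D Y N : Subgroup G} (hDY : D ≤ Y) (hYN : Y ≤ normalizer (N : Set G))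
    (hst : Y ⊓ centralizer (N : Set G) ≤ D) :
    o2 D ⊓ centralizer (N : Set G) = o2 (Y ⊓ centralizer (N : Set G)) := by
  have hYC : Y ≤ normalizer ((Y ⊓ centralizer (N : Set G) : Subgroup G) : Set G) := by
    intro y hy
    rw [mem_normalizer_iff_cj, cj_inf, cj_centralizer, cj_eq_of_mem_normalizer (hYN hy),
      cj_eq_of_mem_normalizer (Subgroup.le_normalizer hy)]
  apply le_antisymm
  · refine le_o2 ?_ ((o2_isPGroup D).to_le inf_le_left) ?_
    · exact inf_le_inf_right _ ((o2_le D).trans hDY)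
    · intro c hc
      rw [mem_normalizer_iff_cj, cj_inf, cj_centralizer, cj_eq_of_mem_normalizer (hYN hc.1),
        cj_eq_of_mem_normalizer (le_normalizer_o2 D (hst hc))]
  · refine le_inf (le_o2 ((o2_le _).trans hst) (o2_isPGroup _) ?_) ((o2_le _).trans inf_le_right)
    intro d hd
    have h1 := hYC (hDY hd)
    rw [mem_normalizer_iff_cj] at h1 ⊢
    exact cj_o2_of h1

/-- `C_Y(N) ≤ D ≤ Y`, `N` normal in `Y`: `O₂(D) ⊓ C(N)` is normal in `Y`. -/
theorem YQ_of {D Y N : Subgroup G} (hDY : D ≤ Y) (hYN : Y ≤ normalizer (N : Set G))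
    (hst : Y ⊓ centralizer (N : Set G) ≤ D) :
    Y ≤ normalizer ((o2 D ⊓ centralizer (N : Set G) : Subgroup G) : Set G) := by
  rw [inf_eq_of hDY hYN hst]
  intro y hy
  have h1 : cj y (Y ⊓ centralizer (N : Set G)) = Y ⊓ centralizer (N : Set G) := by
    rw [cj_inf, cj_centralizer, cj_eq_of_mem_normalizer (hYN hy), cj_eq_of_mem_normalizer (Subgroup.le_normalizer hy)]
  rw [mem_normalizer_iff_cj, cj_o2_of h1]

end fin

section frame

variable {B Q V ZJ : Subgroup G} {L W Z C : ι → Subgroup G} {q : ℕ} (h : Fg B Q V ZJ L W Z C q)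
include h

/-- `Y i` centralises `ZJ ⊓ C i` -/
theorem YL_cent (i : ι) : YL ZJ L i ≤ centralizer ((ZJ ⊓ C i : Subgroup G) : Set G) := by
  refine sup_le (centralizer_le inf_le_left) fun l hl => ?_
  rw [mem_centralizer_iff]
  rintro z ⟨hz, hzC⟩
  exact (h.LC i l hl z hz hzC).symm

/-- `Y i` centralises `Z l` for `l ≠ i` -/
theorem YL_cent_Z {i l : ι} (hil : i ≠ l) : YL ZJ L i ≤ centralizer (Z l : Set G) :=
  (YL_cent h i).trans (centralizer_le (le_inf (h.Z_le l) ((h.blk l).ZV.trans (h.WjC i l hil))))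

/-- **`C_{Y i}(Z i) ≤ C_G(ZJ)`** -/
theorem stab (i : ι) : YL ZJ L i ⊓ centralizer (Z i : Set G) ≤ centralizer (ZJ : Set G) := by
  rintro x ⟨h1, h2⟩
  rw [mem_centralizer_iff]
  intro z hz
  obtain ⟨w, hw, c, hc, hcJ, rfl⟩ := h.split_ZJ i hz
  have e1 := mem_centralizer_iff.1 h2 w hw
  have e2 := mem_centralizer_iff.1 (YL_cent h i h1) c ⟨hcJ, hc⟩
  calc w * c * x = w * (c * x) := mul_assoc _ _ _
    _ = w * x * c := by rw [e2, ← mul_assoc]
    _ = x * (w * c) := by rw [e1, mul_assoc]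

theorem cent_NL (i : ι) : YL ZJ L i ⊓ centralizer (NL ZJ L Z i : Set G) ≤ centralizer (ZJ : Set G) :=
  (inf_le_inf_left _ (centralizer_le (Z_le_NL ZJ L Z i))).trans (stab h i)

/-- `N i ≤ ⟨ZJ^(Y i)⟩` -/
theorem NE_ (i : ι) : NL ZJ L Z i ≤ EI ZJ (YL ZJ L) {i} := by
  refine le_trans ?_ (EI_single ZJ (YL ZJ L) i)
  exact EE_le fun y hy => (cj_mono y (h.Z_le i)).trans (cj_le_EE hy)

theorem inf_eq_o2 [Finite G] (i : ι) : o2 (centralizer (ZJ : Set G)) ⊓ centralizer (NL ZJ L Z i : Set G) =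
    o2 (YL ZJ L i ⊓ centralizer (NL ZJ L Z i : Set G)) :=
  inf_eq_of (DY_ ZJ L i) (YN_ ZJ L Z i) (cent_NL h i)

theorem YQ_ [Finite G] (i : ι) : YL ZJ L i ≤
    normalizer ((o2 (centralizer (ZJ : Set G)) ⊓ centralizer (NL ZJ L Z i : Set G) : Subgroup G) : Set G) :=
  YQ_of (DY_ ZJ L i) (YN_ ZJ L Z i) (cent_NL h i)

end frame

end Cfsg.Agent.Omega.EDel.Flds

end

section


/-!
# `SymBigL`, `SymManyL` (fields 7, 8 of `Node.NO3SOpen.OpenL`) from MLK

(Om): `OmLevZ.omS_two`; (E): THEOREM S'' (`FinalL.eS_three`).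
-/

set_option autoImplicit false

namespace Cfsg.Agent.Omega.EDel.PlugL

open Cfsg.Agent.Omega.Frame (Cls)
open Cfsg.Agent.Omega.Node

universe v

variable {K : Cls.{v}}

/-- **`SymBigL K`**: `V_P` = even subsets of `{1..2^m+1}`, `m ≥ 3` -/
theorem symBigL (hML : ML.Final.MLK.{v, v}) : NO3S.SymBigL K :=
  SymOf.symBigL_of OmLevZ.omS_two ((FinalL.eS_three hML K).mono fun _ _ h => Or.inr h.2)

/-- **`SymManyL K`**: `k ≥ 2` such modules, `m ≥ 2` -/
theorem symManyL (hML : ML.Final.MLK.{v, v}) : NO3S.SymManyL K :=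
  SymOf.symManyL_of OmLevZ.omS_two ((FinalL.eS_three hML K).mono fun _ _ h => Or.inl h)

end Cfsg.Agent.Omega.EDel.PlugL

end
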