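import Cfsg.Agent.Mrg.Omega.EDel.GenS
import Cfsg.Agent.Mrg.Omega.EDel.QP
import Cfsg.Agent.Mrg.Omega.EDel.NoOf
import Cfsg.Agent.Mrg.Omega.EK3.Rank
import Cfsg.Agent.Mrg.Omega.OM.Lev.SMin
import Cfsg.Agent.Mrg.Omega.OM.Lev.SFr
import Cfsg.Agent.Mrg.Omega.OM.FrSym
import Cfsg.Agent.Mrg.Omega.OM.Lev.Main

section


/-!
# THEOREM DELTA: `(QP)`: `⟨D, L_i⟩ = K D` if `K ⊴ ⟨D, L_i⟩` and `K ∩ O` moves `N_i` (helper557, LEMMA G'')
-/

set_option autoImplicit false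
set_option linter.unusedSectionVars false

namespace Cfsg.Agent.Omega.EDel

open Subgroup Cfsg Cfsg.Agent.ZN.ChoiceBase
open Cfsg.Agent.ZN (zc zl o2 jj)
open Cfsg.Agent.Omega.EK3 (CT mem_CT CT_mono)
open Cfsg.Agent.Omega.EK3.StarE (EE EE_le le_EE norm_EE le_norm_of_cj_le)
open Cfsg.Agent.ZN.ChoiceSit (Syl)

universe u

variable {G : Type u} [Group G] {ι : Type} {B Q V X ZJ : Subgroup G} {L W Z C A : ι → Subgroup G} {z : ι → G}

namespace Zf

variable (h : Zf B Q V X ZJ L W Z C A z)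
include h

/-- an element of `B` which moves `W i` maps `w ∈ W i - Z i` to `z i w` -/
theorem conj_of_moves {i : ι} {b : G} (hb : b ∈ B) (hbW : ¬ ∀ w ∈ W i, b * w = w * b) {w : G} (hw : w ∈ W i)
    (hwZ : w ∉ Z i) : b * w * b⁻¹ = z i * w := by
  have h1 : b * w ≠ w * b := fun e => hwZ ((h.fr.blk i).mem_Z hb hbW hw e)
  have h2 : w * b * w⁻¹ * b⁻¹ ∈ Z i :=
    (h.fr.blk i).comm_le le_rfl (Subgroup.commutator_mem_commutator hw hb)
  rcases (h.hz i _).1 h2 with h3 | h3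
  · exact absurd (by
      have h4 : w * b * w⁻¹ = b := mul_inv_eq_one.1 h3
      have h5 : w * b = b * w := mul_inv_eq_iff_eq_mul.1 h4
      exact h5.symm) h1
  · -- `w (b w⁻¹ b⁻¹) = z`
    have hsq : z i * z i = 1 := by rw [← pow_two]; exact h.ZJ_sq (h.z_mem i)
    have h4 : (w * b * w⁻¹ * b⁻¹)⁻¹ = z i := by
      rw [h3]
      exact inv_eq_of_mul_eq_one_left hsq
    have h5 : b * w * b⁻¹ = (w * b * w⁻¹ * b⁻¹)⁻¹ * w := by group
    rw [h5, h4]

section fin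

variable [Finite G] [Finite ι]

/-- `T = B ∩ K` moves `W i` if `L i` does not normalise it -/
theorem moves_W {i : ι} {K : Subgroup G} (hLK : L i ≤ normalizer (K : Set G))
    (hT : ¬ L i ≤ normalizer ((B ⊓ K : Subgroup G) : Set G)) : ∃ b ∈ B, b ∈ K ∧ ¬ ∀ w ∈ W i, b * w = w * b := by
  by_contra hcon
  push Not at hcon
  refine hT (le_norm_of_cj_le fun l hl => ?_)
  rintro _ ⟨x, hx, rfl⟩
  exact ⟨(h.fr.blk i).cor l hl x hx.1 fun v hv => hcon x hx.1 hx.2 v hv,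
    (mem_normalizer_iff.1 (hLK hl) x).1 hx.2⟩

/-- if `b ∈ B ∩ K` moves `W i`, then `L i ≤ K D` -/
theorem L_le_of_moves {i : ι} {K : Subgroup G} (hKT : K ≤ CT z ({i} : Set ι)ᶜ)
    (hLK : L i ≤ normalizer (K : Set G)) {b : G} (hb : b ∈ B) (hbK : b ∈ K) (hbW : ¬ ∀ w ∈ W i, b * w = w * b) :
    L i ≤ K ⊔ centralizer (ZJ : Set G) := by
  have hF := h.fr.blk i
  obtain ⟨k, hk, hs⟩ := hF.sup
  have h2 : ⁅W i, B⁆ ≤ Z i := hF.comm_le le_rfl
  have hs' : W i ≤ Z i ⊔ cj k (Z i) := hs.trans (sup_le (h2.trans le_sup_left) ((cj_mono k h2).trans le_sup_right))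
  have hziW : z i ∈ W i := hF.ZV (h.z_mem_Z i)
  set x₀ : G := k * z i * k⁻¹ with hx₀
  have hx₀W : x₀ ∈ W i := hF.nV k hk _ hziW
  have hne : ∀ g : G, g * z i * g⁻¹ ≠ 1 := fun g e => h.z_ne i (by simpa using e)
  have hmemcj : ∀ x, x ∈ cj k (Z i) → x = 1 ∨ x = x₀ := by
    rintro _ ⟨y, hy, rfl⟩
    rcases (h.hz i y).1 hy with rfl | rfl
    · left
      simp
    · right
      rfl
  have hx₀Z : x₀ ∉ Z i := by
    intro hx
    have h3 : cj k (Z i) ≤ Z i := fun x hx' => by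
      rcases hmemcj x hx' with rfl | rfl
      · exact one_mem _
      · exact hx
    have h4 : W i = Z i := le_antisymm (hs'.trans (sup_le le_rfl h3)) hF.ZV
    have h5 := hF.card
    rw [h4, h.fr.cardZ i] at h5
    omega
  -- the elements of `W i`
  have hWel : ∀ x ∈ W i, x = 1 ∨ x = z i ∨ x = x₀ ∨ x = z i * x₀ := by
    intro x hx
    have hn : Z i ≤ normalizer (cj k (Z i) : Set G) := by
      refine le_trans (fun a ha => ?_) (centralizer_le_normalizer _)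
      rw [mem_centralizer_iff]
      rintro c hc
      rcases hmemcj c hc with rfl | rfl
      · simp
      · exact hF.comm hx₀W (hF.ZV ha)
    obtain ⟨a, ha, c, hc, rfl⟩ := mem_sup_of_norm hn (hs' hx)
    rcases (h.hz i a).1 ha with rfl | rfl <;> rcases hmemcj c hc with rfl | rfl
    · left; simp
    · right; right; left; simp
    · right; left; simp
    · right; right; right; rfl
  -- `b₁ = k b k⁻¹ ∈ K`, `b₁ z b₁⁻¹ = x₀ z`
  have hb₁ : k * b * k⁻¹ ∈ K := (mem_normalizer_iff.1 (hLK hk) b).1 hbK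
  have hcomm : x₀ * z i = z i * x₀ := hF.comm hx₀W hziW
  have e1 : (k * b * k⁻¹) * z i * (k * b * k⁻¹)⁻¹ = z i * x₀ := by
    have hw' : k⁻¹ * z i * k ∈ W i := by
      have := hF.nV k⁻¹ (inv_mem hk) _ hziW
      rwa [inv_inv] at this
    have hw'Z : k⁻¹ * z i * k ∉ Z i := by
      intro hz'
      rcases (h.hz i _).1 hz' with h3 | h3
      · exact h.z_ne i (by
          have : k * (k⁻¹ * z i * k) * k⁻¹ = 1 := by rw [h3]; simp
          simpa [mul_assoc] using this)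
      · apply hx₀Z
        have h4 : x₀ = z i := by
          rw [hx₀]
          conv_lhs => rw [← h3]
          group
        rw [h4]
        exact h.z_mem_Z i
    have h3 := h.conj_of_moves hb hbW hw' hw'Z
    calc (k * b * k⁻¹) * z i * (k * b * k⁻¹)⁻¹ = k * (b * (k⁻¹ * z i * k) * b⁻¹) * k⁻¹ := by group
      _ = k * (z i * (k⁻¹ * z i * k)) * k⁻¹ := by rw [h3]
      _ = x₀ * z i := by rw [hx₀]; group
      _ = z i * x₀ := hcomm
  have e2 : b * x₀ * b⁻¹ = z i * x₀ := h.conj_of_moves hb hbW hx₀W hx₀Z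
  intro l hl
  -- `k' ∈ K` with `k' (l z l⁻¹) k'⁻¹ = z`
  obtain ⟨c, hc, ec⟩ : ∃ c ∈ K, c * (l * z i * l⁻¹) * c⁻¹ = z i := by
    rcases hWel _ (hF.nV l hl _ hziW) with h3 | h3 | h3 | h3
    · exact absurd h3 (hne l)
    · exact ⟨1, one_mem _, by rw [h3]; simp⟩
    · refine ⟨(k * b * k⁻¹)⁻¹ * b, mul_mem (inv_mem hb₁) hbK, ?_⟩
      rw [h3]
      calc (k * b * k⁻¹)⁻¹ * b * x₀ * ((k * b * k⁻¹)⁻¹ * b)⁻¹
          = (k * b * k⁻¹)⁻¹ * (b * x₀ * b⁻¹) * (k * b * k⁻¹) := by group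
        _ = (k * b * k⁻¹)⁻¹ * ((k * b * k⁻¹) * z i * (k * b * k⁻¹)⁻¹) * (k * b * k⁻¹) := by rw [e2, e1]
        _ = z i := by group
    · refine ⟨(k * b * k⁻¹)⁻¹, inv_mem hb₁, ?_⟩
      rw [h3, ← e1]
      group
  have hD : c * l ∈ centralizer (ZJ : Set G) := by
    refine h.mem_D fun j => ?_
    by_cases hj : j = i
    · subst hj
      have h4 : c * l * z j * (c * l)⁻¹ = z j := by
        calc c * l * z j * (c * l)⁻¹ = c * (l * z j * l⁻¹) * c⁻¹ := by group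
          _ = z j := ec
      exact mul_inv_eq_iff_eq_mul.1 h4
    · exact mem_CT.1 (mul_mem (hKT hc) (h.L_le_CT (T := ({i} : Set ι)ᶜ) (by simp) hl)) j hj
  have e : l = c⁻¹ * (c * l) := by group
  rw [e]
  exact mul_mem (mem_sup_left (inv_mem hc)) (mem_sup_right hD)

/-- **(QP)** -/
theorem gen {i : ι} (h2 : ∃ l, l ≠ i) {K : Subgroup G} (hKY : K ≤ centralizer (ZJ : Set G) ⊔ L i)
    (hYK : centralizer (ZJ : Set G) ⊔ L i ≤ normalizer (K : Set G))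
    (hm : ¬ K ⊓ o2 (centralizer (ZJ : Set G)) ≤
      centralizer (EE (zpowers (z i)) (centralizer (ZJ : Set G) ⊔ L i) : Set G)) :
    centralizer (ZJ : Set G) ⊔ L i ≤ K ⊔ centralizer (ZJ : Set G) := by
  set D : Subgroup G := centralizer (ZJ : Set G) with hD
  have hT : (({i} : Set ι)ᶜ).Nonempty := h2
  have hYT : D ⊔ L i ≤ CT z ({i} : Set ι)ᶜ := h.DL_le_CT (by simp)
  have hO : o2 D ≤ D := Cfsg.Agent.ZN.o2_le _
  have hEO : EE ZJ (D ⊔ L i) ≤ o2 D := h.E_le_O hT hYT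
  have hEeab := h.E_el hT hYT
  have hOB : o2 D ≤ B := by
    -- `O₂(D) ≤ B`
    exact h.o2_le_of le_rfl fun t ht _ => hO ht
  -- a conjugate of `ZJ` moved by `K ∩ O`
  obtain ⟨y, hy, hF⟩ : ∃ y ∈ D ⊔ L i, ¬ K ⊓ o2 D ≤ centralizer (cj y ZJ : Set G) := by
    by_contra hcon
    push Not at hcon
    refine hm (le_centralizer_iff.1 (EE_le fun y hy => ?_))
    exact (cj_mono y (zpowers_le.2 (h.z_mem i))).trans (le_centralizer_iff.1 (hcon y hy))
  have hn := QP.moves_of (B := B) (D := D) (L := L i) (W := EE ZJ (D ⊔ L i)) (K := K) (Z := ZJ)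
    ⟨h.B_le_D, h.Bp, fun R hR hR2 hBR => le_antisymm (h.syl R hR hR2 hBR) hBR⟩ le_rfl (hEO.trans hOB)
    (fun x hx y hy => SQ1.Bau.elem_comm hEeab x hx y hy)
    (fun x hx => by rw [← pow_two]; exact SQ1.Bau.elem_sq hEeab x hx) (norm_EE _ _) (le_EE _ _)
    (fun x hx => by
      rw [← h.fr.zcB]
      exact mem_zc.2 ⟨hOB (hEO hx.1), SQ1.Bau.elem_sq hEeab x hx.1, fun y hy => mem_centralizer_iff.1 hx.2 y hy⟩)
    hKY hYK inf_le_right (F := K ⊓ o2 D) (inf_le_inf_left _ hO) hy hF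
  obtain ⟨b, hb, hbK, hbW⟩ := h.moves_W (le_sup_right.trans hYK) hn
  exact sup_le le_sup_right (h.L_le_of_moves (hKY.trans hYT) (le_sup_right.trans hYK) hb hbK hbW)

end fin

end Zf

end Cfsg.Agent.Omega.EDel

end

section


/-!
# THEOREM S'' over `Zf`

`Y i = ⟨C_G(ZJ), L i⟩`, `N i = ⟨z i^(Y i)⟩`.

* `Zf.sy_of_norm`, `Zf.exists_sy` : an element which permutes the `z l` induces a symmetry (`cjY`: `N_G(B)` maps `L i` into
  `Y j` if it maps `z i` to `z j`);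
* `Zf.core` : `CoreS.Core`;
* **`Zf.false_of`** : the end: no nontrivial 2-subgroup is normalised by all `Y i`, at least three indices, `tr`, `sw`.
-/

set_option autoImplicit false
set_option linter.unusedSectionVars false

namespace Cfsg.Agent.Omega.EDel

open Subgroup Cfsg Cfsg.Agent.ZN.ChoiceBase
open Cfsg.Agent.ZN (zc zl o2 jj)
open Cfsg.Agent.Omega.EK3 (CT mem_CT CT_mono)
open Cfsg.Agent.Omega.EK3.StarE (EE EE_le EE_mono le_EE norm_EE cj_le_EE cj_iSup_le)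
open Cfsg.Agent.Omega.ESym.CoreS (EI Sy Core)
open Cfsg.Agent.ZN.ChoiceSit (Syl)

universe u

variable {G : Type u} [Group G] {ι : Type} {B Q V X ZJ : Subgroup G} {L W Z C A : ι → Subgroup G} {z : ι → G}

/-- `Y i = ⟨C_G(ZJ), L i⟩` -/
def YL (ZJ : Subgroup G) (L : ι → Subgroup G) (i : ι) : Subgroup G := centralizer (ZJ : Set G) ⊔ L i

/-- `N i = ⟨z i^(Y i)⟩` -/
def NL (ZJ : Subgroup G) (L : ι → Subgroup G) (z : ι → G) (i : ι) : Subgroup G := EE (zpowers (z i)) (YL ZJ L i)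

theorem D_le_YL (i : ι) : centralizer (ZJ : Set G) ≤ YL ZJ L i := le_sup_left

/-- Frattini: `B` Sylow in `D`, `D` normalised by `g`. -/
theorem exists_norm_mul [Finite G] {B D : Subgroup G} (hB : Syl B D) {g : G} (hg : g ∈ normalizer (D : Set G)) :
    ∃ c ∈ D, c * g ∈ normalizer (B : Set G) := by
  have e := cj_eq_of_mem_normalizer hg
  have h1 : Syl (cj g B) D := by
    refine ⟨e ▸ cj_mono g hB.1, isPGroup_cj g hB.2.1, fun Q hQ hQ2 hle => ?_⟩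
    have h2 : cj g⁻¹ Q ≤ D := by
      have := cj_mono g⁻¹ hQ
      rwa [cj_eq_of_mem_normalizer (inv_mem hg)] at this
    have h3 : B ≤ cj g⁻¹ Q := by
      have := cj_mono g⁻¹ hle
      rwa [cj_inv_cj] at this
    have h4 := hB.2.2 _ h2 (isPGroup_cj _ hQ2) h3
    rw [← h4, cj_cj_inv]
  obtain ⟨c, hc, hcB⟩ := ZN.ChoiceSit.syl_conj h1 hB
  refine ⟨c, hc, ?_⟩
  rw [mem_normalizer_iff_cj, ← cj_cj]
  exact hcB

namespace Zf

variable (h : Zf B Q V X ZJ L W Z C A z)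
include h

theorem YL_le_CT (i : ι) : YL ZJ L i ≤ CT z ({i} : Set ι)ᶜ := h.DL_le_CT (by simp)

theorem syl_D [Finite G] : Syl B (centralizer (ZJ : Set G)) :=
  ⟨h.B_le_D, h.Bp, fun R hR hR2 hBR => le_antisymm (h.syl R hR hR2 hBR) hBR⟩

section norm

variable [Finite G]

theorem norm_ZJ {g : G} (hg : g ∈ normalizer (B : Set G)) : g ∈ normalizer (ZJ : Set G) := by
  rw [mem_normalizer_iff_cj]
  conv_rhs => rw [← h.fr.zcB]
  conv_lhs => rw [← h.fr.zcB]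
  rw [← LemmaK.Main.zc_cj, cj_eq_of_mem_normalizer hg]

/-- **a symmetry from `N_G(B)`** -/
theorem sy_of_norm
    (cjY : ∀ g ∈ normalizer (B : Set G), ∀ i j, g * z i * g⁻¹ = z j → cj g (L i) ≤ YL ZJ L j)
    {g : G} (hg : g ∈ normalizer (B : Set G)) {π : Equiv.Perm ι} (hπ : ∀ l, g * z l * g⁻¹ = z (π l)) :
    Sy (o2 (centralizer (ZJ : Set G))) (YL ZJ L) (NL ZJ L z) g π := by
  have hY : ∀ g ∈ normalizer (B : Set G), ∀ i j, g * z i * g⁻¹ = z j → cj g (YL ZJ L i) ≤ YL ZJ L j := by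
    intro g hg i j hij
    have e : cj g (YL ZJ L i) = cj g (centralizer (ZJ : Set G)) ⊔ cj g (L i) := Subgroup.map_sup _ _ _
    rw [e, cj_centralizer, cj_eq_of_mem_normalizer (h.norm_ZJ hg)]
    exact sup_le (D_le_YL j) (cjY g hg i j hij)
  have hN : ∀ g ∈ normalizer (B : Set G), ∀ i j, g * z i * g⁻¹ = z j → cj g (NL ZJ L z i) ≤ NL ZJ L z j := by
    intro g hg i j hij
    refine cj_iSup_le fun y => ?_
    have h1 : g * y * g⁻¹ ∈ YL ZJ L j := hY g hg i j hij ⟨y, y.2, rfl⟩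
    have h2 : cj g (zpowers (z i)) ≤ zpowers (z j) := by
      rintro _ ⟨x, hx, rfl⟩
      obtain ⟨n, rfl⟩ := mem_zpowers_iff.1 hx
      refine mem_zpowers_iff.2 ⟨n, ?_⟩
      show z j ^ n = g * z i ^ n * g⁻¹
      rw [← conj_zpow, hij]
    have h3 : cj g (cj (y : G) (zpowers (z i))) = cj (g * y * g⁻¹) (cj g (zpowers (z i))) := by
      rw [cj_cj, cj_cj]
      congr 1
      group
    rw [h3]
    exact (cj_mono _ h2).trans (cj_le_EE h1)
  have hinv : ∀ l, g⁻¹ * z (π l) * g⁻¹⁻¹ = z l := fun l => by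
    rw [← hπ l]; group
  have hg' : g⁻¹ ∈ normalizer (B : Set G) := inv_mem hg
  refine ⟨?_, fun l => le_antisymm (hY g hg _ _ (hπ l)) ?_, fun l => le_antisymm (hN g hg _ _ (hπ l)) ?_⟩
  · have h1 : g ∈ normalizer (centralizer (ZJ : Set G) : Set G) := by
      rw [mem_normalizer_iff_cj, cj_centralizer, cj_eq_of_mem_normalizer (h.norm_ZJ hg)]
    exact cj_eq_of_mem_normalizer (ZN.normalizer_le_normalizer_o2 _ h1)
  · have h1 := cj_mono g (hY _ hg' _ _ (hinv l))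
    rwa [cj_cj_inv] at h1
  · have h1 := cj_mono g (hN _ hg' _ _ (hinv l))
    rwa [cj_cj_inv] at h1

variable [Finite ι]

/-- an element which permutes the `z l` normalises `ZJ` -/
theorem norm_of_perm {g : G} {π : Equiv.Perm ι} (hπ : ∀ l, g * z l * g⁻¹ = z (π l)) :
    g ∈ normalizer (ZJ : Set G) := by
  have key : ∀ (g : G) (π : Equiv.Perm ι), (∀ l, g * z l * g⁻¹ = z (π l)) → cj g ZJ ≤ ZJ := by
    intro g π hπ
    refine (cj_mono g (ZJ_le_iSup (OM.Lev.Main.toFg h.fr))).trans (cj_iSup_le fun l => ?_)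
    rintro _ ⟨x, hx, rfl⟩
    rcases (h.hz l x).1 hx with rfl | rfl
    · show g * 1 * g⁻¹ ∈ ZJ
      rw [mul_one, mul_inv_cancel]
      exact one_mem _
    · show g * z l * g⁻¹ ∈ ZJ
      rw [hπ]
      exact h.z_mem _
  refine EK3.StarE.norm_of_cj_le (key g π hπ) (key g⁻¹ π⁻¹ fun l => ?_)
  have h1 := hπ (π⁻¹ l)
  rw [show π (π⁻¹ l) = l by simp] at h1
  rw [← h1]; group

/-- **any element which permutes the `z l`** -/
theorem exists_sy
    (cjY : ∀ g ∈ normalizer (B : Set G), ∀ i j, g * z i * g⁻¹ = z j → cj g (L i) ≤ YL ZJ L j)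
    {g : G} {π : Equiv.Perm ι} (hπ : ∀ l, g * z l * g⁻¹ = z (π l)) :
    ∃ g', Sy (o2 (centralizer (ZJ : Set G))) (YL ZJ L) (NL ZJ L z) g' π := by
  have hn : g ∈ normalizer (centralizer (ZJ : Set G) : Set G) := by
    rw [mem_normalizer_iff_cj, cj_centralizer, cj_eq_of_mem_normalizer (h.norm_of_perm hπ)]
  obtain ⟨c, hc, hcB⟩ := exists_norm_mul h.syl_D hn
  refine ⟨c * g, h.sy_of_norm cjY hcB fun l => ?_⟩
  have h2 : z (π l) * c = c * z (π l) := mem_centralizer_iff.1 hc _ (h.z_mem _)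
  calc c * g * z l * (c * g)⁻¹ = c * (g * z l * g⁻¹) * c⁻¹ := by group
    _ = c * z (π l) * c⁻¹ := by rw [hπ]
    _ = z (π l) := by rw [← h2]; group

/-- **`CoreS.Core` over `Zf`** -/
theorem core [Nonempty ι] (hML : ML.Final.MLK.{u, u}) (hK : ∀ i, IsKGroup (YL ZJ L i))
    (three : ∀ i j : ι, ∃ l, l ≠ i ∧ l ≠ j)
    (tr : ∀ i j, ∃ g, ∃ σ : Equiv.Perm ι,
      Sy (o2 (centralizer (ZJ : Set G))) (YL ZJ L) (NL ZJ L z) g σ ∧ σ i = j)
    (sw : ∀ i j, i ≠ j → ∃ g, ∃ σ : Equiv.Perm ι,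
      Sy (o2 (centralizer (ZJ : Set G))) (YL ZJ L) (NL ZJ L z) g σ ∧
        ((σ i = i ∧ σ j ≠ j) ∨ (σ i = j ∧ σ j = i))) :
    Core (o2 (centralizer (ZJ : Set G))) (centralizer (ZJ : Set G)) ZJ (YL ZJ L) (NL ZJ L z) where
  two := MinSimple.VModule.o2_isPGroup _
  OY i := (Cfsg.Agent.ZN.o2_le _).trans (D_le_YL i)
  OZ := Cfsg.Agent.ZN.o2_le _
  DY := D_le_YL
  three := three
  ne := inferInstance
  eab I hI := h.EI_el h.YL_le_CT hI
  NE i := (h.N_le_EE i _).trans (EE_mono (le_iSup (fun i : ({i} : Set ι) => YL ZJ L i) ⟨i, rfl⟩))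
  YN i := norm_EE _ _
  YQ i := h.YQ (D_le_YL i) (h.YL_le_CT i)
  no i := by
    obtain ⟨l, hl, -⟩ := three i i
    exact h.no hML (hK i) (D_le_YL i) (h.YL_le_CT i) ⟨l, hl⟩
  gen i K hKY hYK hm := by
    obtain ⟨l, hl, -⟩ := three i i
    exact h.gen ⟨l, hl⟩ hKY hYK hm
  tr := tr
  sw := sw

/-- **THEOREM S'' over `Zf`.** -/
theorem false_of [Nonempty ι] (hML : ML.Final.MLK.{u, u}) (hK : IsKProper G)
    (cjY : ∀ g ∈ normalizer (B : Set G), ∀ i j, g * z i * g⁻¹ = z j → cj g (L i) ≤ YL ZJ L j)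
    (nl : ∀ U : Subgroup G, U ≠ ⊥ → IsPGroup 2 U → ¬ ∀ i, YL ZJ L i ≤ normalizer (U : Set G))
    (three : ∀ i j : ι, ∃ l, l ≠ i ∧ l ≠ j)
    (tr : ∀ i j, ∃ g, ∃ π : Equiv.Perm ι, (∀ l, g * z l * g⁻¹ = z (π l)) ∧ π i = j)
    (sw : ∀ i j, i ≠ j → ∃ g, ∃ π : Equiv.Perm ι, (∀ l, g * z l * g⁻¹ = z (π l)) ∧
      ((π i = i ∧ π j ≠ j) ∨ (π i = j ∧ π j = i))) : False := by
  obtain ⟨i₀⟩ := ‹Nonempty ι›
  have : Nonempty ι := ⟨i₀⟩
  have hKi : ∀ i, IsKGroup (YL ZJ L i) := by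
    intro i
    refine hK _ fun e => ?_
    obtain ⟨l, hl, -⟩ := three i i
    -- `z l` is central in `G`
    have h1 : ∀ g : G, g * z l = z l * g := fun g =>
      mem_CT.1 (h.YL_le_CT i (by rw [e]; exact mem_top g)) l hl
    refine nl (zpowers (z l)) (fun e1 => h.z_ne l (zpowers_eq_bot.1 e1)) ?_ fun j g _ => ?_
    · refine h.Bp.to_le (zpowers_le.2 ?_)
      have h2 : z l ∈ zc B := by
        rw [h.fr.zcB]
        exact h.z_mem l
      exact (mem_zc.1 h2).1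
    · rw [mem_normalizer_iff_cj]
      refine cj_eq_of_mem_normalizer (centralizer_le_normalizer _ (mem_centralizer_iff.2 fun x hx => ?_))
      obtain ⟨n, rfl⟩ := hx
      exact ((show Commute g (z l) from h1 g).zpow_right n).eq.symm
  have hO : o2 (centralizer (ZJ : Set G)) ≠ ⊥ := by
    intro e
    obtain ⟨l, hl, -⟩ := three i₀ i₀
    have h1 : z i₀ ∈ EE ZJ (YL ZJ L i₀) := h.N_le_EE i₀ _ (z_mem_EE i₀ _)
    have h2 := h.E_le_O (T := ({i₀} : Set ι)ᶜ) ⟨l, hl⟩ (h.YL_le_CT i₀) h1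
    rw [e, mem_bot] at h2
    exact h.z_ne i₀ h2
  obtain ⟨R, hR, hR2, hn⟩ := (h.core hML hKi three
    (fun i j => by
      obtain ⟨g, π, hπ, h1⟩ := tr i j
      obtain ⟨g', hs⟩ := h.exists_sy cjY hπ
      exact ⟨g', π, hs, h1⟩)
    (fun i j hij => by
      obtain ⟨g, π, hπ, h1⟩ := sw i j hij
      obtain ⟨g', hs⟩ := h.exists_sy cjY hπ
      exact ⟨g', π, hs, h1⟩)).local hO
  exact nl R hR hR2 hn

end norm

end Zf

end Cfsg.Agent.Omega.EDel

end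

section


/-!
# THEOREM S'' (#23971), [D]: `N_G(B)` on the light pairs (symmetric types)

`d i = {X i, Y i}` in the factor `J i` (`Ch`), `B` a Sylow 2-subgroup of `C_G(Z_J)`, `Z_J = ⟨d i⟩`.

* `Pm d g σ` : `g d_l g⁻¹ = d_(σ l)`;
* `Mv B d` : `tr` transitive; `sw` : for `i ≠ j` some `g ∈ N(B)` fixes `i` and moves `j`, or interchanges them;
  `tp` : some `g ∈ N(B)` acts as a transposition;
* `mv_of` : from `SyL`, `Ch` (`m ≥ 2`);  `three_of` : at least three pairs (`k ≥ 2` or `m ≥ 3`);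
* `exists_mv_neg`, `exists_mv_lev` : `Line.exists_sym` (stage `-1`) and `Lev.Sym.exists_sym_lev` with `Mv`;
* `cj_Y`, `cj_N` : the action of `g ∈ N(B)`, `Pm d g σ`, on `Y i = ⟨C(Z_J), L i⟩` and `N i = ⟨d_i^(Y i)⟩`, from UNI.
-/

set_option autoImplicit false
set_option linter.unusedSectionVars false
set_option linter.unusedVariables false

namespace Cfsg.Agent.Omega.EDel

open Subgroup Cfsg Cfsg.Agent.ZN Cfsg.Agent.ZN.ChoiceBase Cfsg.Agent.ZN.ChoiceSit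
open Cfsg.Agent.Omega.FFThm (ActsSym SymK SymKM)
open Cfsg.Agent.Omega.FrameFF (cv)
open Cfsg.Agent.Omega.SQ1.FFSym
open Cfsg.Agent.Omega.OM.Lev.SymIn Cfsg.Agent.Omega.OM.Lev.SymIn.SyL
open Cfsg.Agent.Omega.OM
open Cfsg.Agent.Omega.NO3S (HypJ)
open scoped Pointwise

universe v

variable {G : Type v} [Group G]

theorem cj_sup (g : G) (H K : Subgroup G) : cj g (H ⊔ K) = cj g H ⊔ cj g K := Subgroup.map_sup H K _

/-- `g d_l g⁻¹ = d_(σ l)` -/
def Pm {ι : Type*} (d : ι → G) (g : G) (σ : Equiv.Perm ι) : Prop := ∀ l, g * d l * g⁻¹ = d (σ l)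

/-- `N_G(B)` on the `d i`. -/
structure Mv {ι : Type*} (B : Subgroup G) (d : ι → G) : Prop where
  inj : Function.Injective d
  tr : ∀ i j, ∃ g ∈ normalizer (B : Set G), ∃ σ, Pm d g σ ∧ σ i = j
  sw : ∀ i j, i ≠ j → ∃ g ∈ normalizer (B : Set G), ∃ σ, Pm d g σ ∧ ((σ i = i ∧ σ j ≠ j) ∨ (σ i = j ∧ σ j = i))
  tp : ∃ a b, a ≠ b ∧ ∃ g ∈ normalizer (B : Set G), ∃ σ, Pm d g σ ∧ σ a = b ∧ σ b = a ∧
    ∀ l, l ≠ a → l ≠ b → σ l = l

/-- A conjugation which maps the `d i` to `d i`'s permutes them. -/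
theorem exists_pm {ι : Type*} [Finite ι] {d : ι → G} (hd : Function.Injective d) {g : G}
    (hg : ∀ l, ∃ l', g * d l * g⁻¹ = d l') : ∃ σ, Pm d g σ := by
  choose f hf using hg
  have hinj : Function.Injective f := by
    intro a b hab
    apply hd
    have h1 := (hf a).trans ((congrArg d hab).trans (hf b).symm)
    exact mul_left_cancel (mul_right_cancel h1)
  exact ⟨Equiv.ofBijective f (Finite.injective_iff_bijective.1 hinj), hf⟩

/-- Frattini: `B` a Sylow 2-subgroup of `C(Z_J)`, `g ∈ N(Z_J)`. -/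
theorem frattini [Finite G] {B ZJ : Subgroup G} (hB : Syl B (centralizer (ZJ : Set G))) {g : G}
    (hg : g ∈ normalizer (ZJ : Set G)) : ∃ c ∈ centralizer (ZJ : Set G), c * g ∈ normalizer (B : Set G) := by
  have e : cj g (centralizer (ZJ : Set G)) = centralizer (ZJ : Set G) := by
    rw [cj_centralizer, cj_eq_of_mem_normalizer hg]
  have h1 : Syl (cj g B) (centralizer (ZJ : Set G)) := by
    refine ⟨e ▸ cj_mono g hB.1, isPGroup_cj g hB.2.1, fun Q hQ hQ2 hle => ?_⟩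
    have h2 : cj g⁻¹ Q ≤ centralizer (ZJ : Set G) := by
      have := cj_mono g⁻¹ hQ
      rw [← e, cj_inv_cj] at this
      exact this
    have h3 : B ≤ cj g⁻¹ Q := by
      have := cj_mono g⁻¹ hle
      rwa [cj_inv_cj] at this
    have h4 := hB.2.2 _ h2 (isPGroup_cj _ hQ2) h3
    rw [← h4, cj_cj_inv]
  obtain ⟨c, hc, hcB⟩ := syl_conj h1 hB
  refine ⟨c, hc, ?_⟩
  rw [mem_normalizer_iff_cj, ← cj_cj]
  exact hcB

/-- the same, with the action on the `d i` -/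
theorem frattini_pm [Finite G] {ι : Type*} {B ZJ : Subgroup G} {d : ι → G} (hB : Syl B (centralizer (ZJ : Set G)))
    (hZ : ZJ = closure (Set.range d)) {g : G} {σ : Equiv.Perm ι} (hg : Pm d g σ) :
    ∃ g' ∈ normalizer (B : Set G), Pm d g' σ := by
  have hn : g ∈ normalizer (ZJ : Set G) := by
    rw [mem_normalizer_iff_cj, hZ]
    unfold cj
    rw [MonoidHom.map_closure, ← Set.range_comp]
    congr 1
    ext x
    simp only [Set.mem_range, Function.comp_apply]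
    constructor
    · rintro ⟨l, rfl⟩
      exact ⟨σ l, (hg l).symm⟩
    · rintro ⟨l, rfl⟩
      refine ⟨σ.symm l, ?_⟩
      have h1 := hg (σ.symm l)
      rw [Equiv.apply_symm_apply] at h1
      exact h1
  obtain ⟨c, hc, hcB⟩ := frattini hB hn
  refine ⟨c * g, hcB, fun l => ?_⟩
  have h1 : d (σ l) ∈ ZJ := hZ ▸ subset_closure ⟨σ l, rfl⟩
  have h2 : d (σ l) * c = c * d (σ l) := mem_centralizer_iff.1 hc _ h1
  calc c * g * d l * (c * g)⁻¹ = c * (g * d l * g⁻¹) * c⁻¹ := by group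
    _ = c * d (σ l) * c⁻¹ := by rw [hg l]
    _ = d (σ l) := by rw [← h2]; group

section syl

variable {T H Q V D Jg : Subgroup G} {AA : Set (Subgroup G)} {k n : ℕ} {o : Fin n}
  {e : G → Fin k → Fin n → ZMod 2} {ι : Type} {J : ι → Fin k} {X Y : ι → Fin n} {t r : ι → G}
  (h : SyL T H Q V Jg D AA o e) (c : Ch Jg H V D o e J X Y t r)
include h c

theorem d_inj : Function.Injective fun i => u H V D e (J i) (X i) (Y i) := fun i j hij => c.inj i j hij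

/-- `T` permutes the `d i` -/
theorem exists_pm_T [Finite G] [Finite ι] {s : G} (hs : s ∈ T) :
    ∃ σ, Pm (fun i => u H V D e (J i) (X i) (Y i)) s σ := by
  refine exists_pm (d_inj h c) fun l => ?_
  obtain ⟨σ, τ, ha, -⟩ := h.exists_act hs
  have h1 := (c.tr l).conj h hs ha
  obtain ⟨l', hl'⟩ := c.ex _ _ _ h1
  exact ⟨l', by rw [h.u_conj (h.TH hs) ha, hl']⟩

/-- `T` is transitive on the `d i` -/
theorem exists_tr_T [Finite G] [Finite ι] (i j : ι) :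
    ∃ s ∈ T, ∃ σ, Pm (fun i => u H V D e (J i) (X i) (Y i)) s σ ∧ σ i = j := by
  -- the factor
  obtain ⟨s₁, hs₁, σ₁, τ₁, ha₁, hσ₁⟩ := h.trans (J i) (J j)
  have h1 := (c.tr i).conj h hs₁ ha₁
  have e1 := h.u_conj (h.TH hs₁) ha₁ (J i) (X i) (Y i)
  rw [hσ₁] at h1 e1
  -- the point
  obtain ⟨s₂, hs₂, π, hπ, hπx⟩ := h.cyc_T Cfsg.Agent.Omega.SQ1.SymCyc.exists_pow (J j) (h1.ne h).1.symm
    ((c.tr j).ne h).1.symm
  have h2 := h1.conj h hs₂ hπ.act
  have e2 := h.u_conj (h.TH hs₂) hπ.act (J j) (τ₁ (J i) (X i)) (τ₁ (J i) (Y i))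
  rw [Equiv.Perm.one_apply, Pi.mulSingle_eq_same, hπx] at h2 e2
  have h3 := h2.disj h (c.tr j)
  rw [h3] at e2
  have hs : s₂ * s₁ ∈ T := mul_mem hs₂ hs₁
  obtain ⟨σ, hσ⟩ := exists_pm_T h c hs
  refine ⟨_, hs, σ, hσ, ?_⟩
  apply d_inj h c
  have h4 := hσ i
  simp only at h4 ⊢
  rw [← h4]
  calc s₂ * s₁ * u H V D e (J i) (X i) (Y i) * (s₂ * s₁)⁻¹
      = s₂ * (s₁ * u H V D e (J i) (X i) (Y i) * s₁⁻¹) * s₂⁻¹ := by group
    _ = _ := by rw [e1, e2]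

/-- a further pair in the factor of `i`, avoiding a set of points -/
theorem exists_idx_of [Finite G] (j : Fin k) (F : Finset (Fin n)) (hF : F.card < n) (ho : o ∈ F) :
    ∃ l, J l = j ∧ (X l ∉ F ∨ Y l ∉ F) := by
  obtain ⟨x, hx⟩ : ∃ x, x ∉ F := by
    by_contra hcon
    push Not at hcon
    have : F = Finset.univ := Finset.eq_univ_of_forall hcon
    rw [this, Finset.card_univ, Fintype.card_fin] at hF
    omega
  obtain ⟨y, hy⟩ := h.cover Cfsg.Agent.Omega.SQ1.SymCyc.exists_pow j (fun e : x = o => hx (e ▸ ho))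
  obtain ⟨l, hl, -, -, h1⟩ := c.exists_idx h hy
  refine ⟨l, hl, ?_⟩
  rcases h1 with ⟨h1, -⟩ | ⟨-, h1⟩
  · exact Or.inl (by rw [h1]; exact hx)
  · exact Or.inr (by rw [h1]; exact hx)

/-- the partner -/
theorem exists_partner [Finite G] (hn : 5 ≤ n) (i : ι) : ∃ l, l ≠ i ∧ J l = J i := by
  classical
  obtain ⟨l, hl, h1⟩ := exists_idx_of h c (J i) {o, X i, Y i} (lt_of_le_of_lt Finset.card_le_three (by omega))
    (by simp)
  refine ⟨l, ?_, hl⟩
  rintro rfl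
  rcases h1 with h1 | h1 <;> exact h1 (by simp)

/-- at least three pairs -/
theorem three_of [Finite G] (hn : 5 ≤ n) (hkn : 2 ≤ k ∨ 6 ≤ n) (i j : ι) : ∃ l, l ≠ i ∧ l ≠ j := by
  classical
  by_cases hJ : J j = J i
  · rcases hkn with hk | hn'
    · -- another factor
      obtain ⟨j', hj'⟩ : ∃ j' : Fin k, j' ≠ J i := by
        have : Nontrivial (Fin k) := Fin.nontrivial_iff_two_le.2 hk
        exact exists_ne _
      obtain ⟨l, hl, -⟩ := exists_idx_of h c j' {o} (by simp; omega) (by simp)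
      refine ⟨l, ?_, ?_⟩
      · rintro rfl; exact hj' hl.symm
      · rintro rfl; exact hj' (hl.symm.trans hJ)
    · obtain ⟨l, hl, h1⟩ := exists_idx_of h c (J i) {o, X i, Y i, X j, Y j}
        (lt_of_le_of_lt Finset.card_le_five (by omega)) (by simp)
      refine ⟨l, ?_, ?_⟩ <;> (rintro rfl; rcases h1 with h1 | h1 <;> exact h1 (by simp))
  · obtain ⟨l, hl, hJl⟩ := exists_partner h c hn i
    exact ⟨l, hl, fun e => hJ (by rw [← e]; exact hJl)⟩

/-- the interchange of two pairs of one factor, as an element of `N_G(B)` -/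
theorem exists_swap_B [Finite G] [Finite ι] {B ZJ : Subgroup G} (hB : Syl B (centralizer (ZJ : Set G)))
    (hZ : ZJ = closure (Set.range fun i => u H V D e (J i) (X i) (Y i))) {i j : ι} (hij : i ≠ j) (hJ : J i = J j) :
    ∃ g ∈ normalizer (B : Set G), ∃ σ, Pm (fun i => u H V D e (J i) (X i) (Y i)) g σ ∧ σ i = j ∧ σ j = i ∧
      ∀ l, l ≠ i → l ≠ j → σ l = l := by
  classical
  obtain ⟨g, -, h1, h2, h3⟩ := ESym.exists_swap h c hij hJ
  have hP : Pm (fun i => u H V D e (J i) (X i) (Y i)) g (Equiv.swap i j) := by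
    intro l
    by_cases hi : l = i
    · subst hi
      rw [Equiv.swap_apply_left]
      exact h1
    · by_cases hj : l = j
      · subst hj
        rw [Equiv.swap_apply_right]
        exact h2
      · rw [Equiv.swap_apply_of_ne_of_ne hi hj]
        exact h3 l hi hj
  obtain ⟨g', hg', hP'⟩ := frattini_pm hB hZ hP
  exact ⟨g', hg', _, hP', Equiv.swap_apply_left _ _, Equiv.swap_apply_right _ _,
    fun l hi hj => Equiv.swap_apply_of_ne_of_ne hi hj⟩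

/-- **`Mv` from the coordinates.** -/
theorem mv_of [Finite G] [Finite ι] (hn : 5 ≤ n) {B ZJ : Subgroup G} (hB : Syl B (centralizer (ZJ : Set G)))
    (hZ : ZJ = closure (Set.range fun i => u H V D e (J i) (X i) (Y i))) (hT : T ≤ normalizer (B : Set G)) :
    Mv B fun i => u H V D e (J i) (X i) (Y i) where
  inj := d_inj h c
  tr := fun i j => by
    obtain ⟨s, hs, σ, hσ, hij⟩ := exists_tr_T h c i j
    exact ⟨s, hT hs, σ, hσ, hij⟩
  sw := fun i j hij => by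
    by_cases hJ : J i = J j
    · obtain ⟨g, hg, σ, hσ, h1, h2, -⟩ := exists_swap_B h c hB hZ hij hJ
      exact ⟨g, hg, σ, hσ, Or.inr ⟨h1, h2⟩⟩
    · obtain ⟨l, hl, hJl⟩ := exists_partner h c hn j
      obtain ⟨g, hg, σ, hσ, h1, h2, h3⟩ := exists_swap_B h c hB hZ hl hJl
      refine ⟨g, hg, σ, hσ, Or.inl ⟨h3 i ?_ hij, ?_⟩⟩
      · rintro rfl; exact hJ hJl
      · rw [h2]; exact hl
  tp := by
    obtain ⟨j, x, y, hT⟩ := h.exists_tr
    obtain ⟨i, -⟩ := c.ex j x y hT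
    obtain ⟨l, hl, hJl⟩ := exists_partner h c hn i
    obtain ⟨g, hg, σ, hσ, h1, h2, h3⟩ := exists_swap_B h c hB hZ hl hJl
    exact ⟨l, i, hl, g, hg, σ, hσ, h1, h2, h3⟩

end syl

/-! ### Stage `-1`: `SyT` as `SyL` -/

section neg

variable {T H Q V D : Subgroup G} {k n : ℕ} {o : Fin n} {e : G → Fin k → Fin n → ZMod 2} {ι : Type}
  {J : ι → Fin k} {X Y : ι → Fin n} {t r : ι → G}

theorem syL_of_syT [Finite G] (h : SyT T H Q V D o e) : SyL T H Q V (jj T) D (AA T) o e :=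
  { h with
    JT := ChoiceBase.jj_le T
    Jn := fun x hx y hy => SyT.J_norm hx hy
    AJ := fun A hA => le_jj hA
    Jle := by rw [jj_eq]; exact le_sup_left }

theorem ch_of_ch (c : SQ1.FFSym.SyT.Ch T H V D o e J X Y t r) : Ch (jj T) H V D o e J X Y t r where
  tr := c.tr
  tJ := c.tJ
  tg := c.tg
  rg := c.rg
  inj := c.inj
  ex := c.ex

end neg

/-- `S ≤ N(C_S(Z_J))` -/
theorem le_norm_cent {S ZJ : Subgroup G} (hZ : S ≤ normalizer (ZJ : Set G)) :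
    S ≤ normalizer ((S ⊓ centralizer (ZJ : Set G) : Subgroup G) : Set G) := by
  intro s hs
  rw [mem_normalizer_iff_cj, cj_inf, cj_centralizer, cj_eq_of_mem_normalizer (hZ hs),
    cj_eq_of_mem_normalizer (Subgroup.le_normalizer hs)]

/-- **Stage `-1`, symmetric modules (`m ≥ 2`)**: `Line.exists_sym` with `Mv`. -/
theorem exists_mv_neg [Finite G] {S : Sylow 2 G} {P : Subgroup G} (h : HypJ S P) {k m : ℕ} (hk : 0 < k) (hm : 2 ≤ m)
    (N : SymK (S : Subgroup G) P (zl (S : Subgroup G) P) (cv (S : Subgroup G) P) k m) :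
    ∃ (ι : Type) (_ : Finite ι) (W : ι → Subgroup G) (d t r : ι → G) (L A : ι → Subgroup G),
      OM.SymOut (S : Subgroup G) P (zl (S : Subgroup G) P) W d t r ∧
      (∀ i, SQ1.BauS.Blk P (S : Subgroup G) (zl (S : Subgroup G) P) d r i (L i)) ∧
      (∀ x ∈ (S : Subgroup G), ∀ i j, x * d i * x⁻¹ = d j → cj x (L i) = L j) ∧
      (∀ i, A i ∈ AA (S : Subgroup G)) ∧
      Line S P L W (fun i => zpowers (d i)) (fun i => FrSym.CC W i) A 2 ∧
      Mv (bau (S : Subgroup G)) d ∧ ((2 ≤ k ∨ 3 ≤ m) → ∀ i j : ι, ∃ l, l ≠ i ∧ l ≠ j) := by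
  obtain ⟨ι, J, X, Y, t, r, h0, hc0, h2⟩ := symOut h.toHyp.syl h.star.toIsMinPar
    (h.star.isLoc.char2 S h.ctx.char2) h.jnot hk (by omega) N h.toHyp.cv
  obtain ⟨L, A, hL, hc, hA, hF⟩ := FrSym.symFr h2 (Uni.mx_sylow S)
  have hfin : Finite ι := h2.bau.finite_index
  have h4 : 2 ^ 2 ≤ 2 ^ m := Nat.pow_le_pow_right (by norm_num) hm
  have h5 : 5 ≤ 2 ^ m + 1 := by omega
  have hl := syL_of_syT h0
  have hch := ch_of_ch hc0
  have eqB : bau (S : Subgroup G) = (S : Subgroup G) ⊓ centralizer (zj (S : Subgroup G) : Set G) := rfl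
  have hZ : (S : Subgroup G) ≤ normalizer (zj (S : Subgroup G) : Set G) :=
    (Line.S_le S).trans (by rw [← ChoiceBase.zc_bau]; exact normalizer_le_of_cj (F := zc) LemmaK.Main.zc_cj _)
  refine ⟨ι, hfin, _, _, t, r, L, A, h2, hL, hc, hA, ⟨h, hF, fun i => ?_⟩, ?_, fun hkm => ?_⟩
  · obtain ⟨l, hl', -⟩ := exists_partner hl hch h5 i
    exact ⟨l, hl'⟩
  · exact mv_of hl hch h5 (WOneG.syl_B S eqB hZ) h2.zj_eq (Line.S_le S)
  · refine three_of hl hch h5 ?_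
    rcases hkm with h6 | h6
    · exact Or.inl h6
    · have h7 : 2 ^ 3 ≤ 2 ^ m := Nat.pow_le_pow_right (by norm_num) h6
      exact Or.inr (by omega)

/-! ### Stage `n` -/

section lev

open Cfsg.Agent.Omega.OM.Lev.Sym
open Cfsg.Agent.Omega.OM.Lev.SIn (In In0 ZJ BB Blk mem_ZJ mem_BB)
open Cfsg.Agent.Omega.OM.Lev.Uni (FrL Best)
open Cfsg.Agent.Omega.NO3S.OneLine (Exa BFam)
open Cfsg.Agent.Omega.OM.FrSym (CC)
open Cfsg.Agent.Omega.NO3S.Level (Lev BO nxt)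
open Cfsg.Agent.Omega.MinPar (IsParS)

variable [Finite G] {S : Sylow 2 G} {P X : Subgroup G} {AA : Set (Subgroup G)}

/-- **The symmetric frame** (`m ≥ 2`) with `Mv`. -/
theorem exists_mv {K : Subgroup G} (h : Exa S P X K AA) {Jg : Subgroup G} {k m : ℕ} (hk : 0 < k) (hm : 2 ≤ m)
    (N : SymKM (S : Subgroup G) P (zl (S : Subgroup G) P) (cv (S : Subgroup G) P) k m)
    (JT : Jg ≤ (S : Subgroup G)) (Jn : ∀ x ∈ (S : Subgroup G), ∀ y ∈ Jg, x * y * x⁻¹ ∈ Jg)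
    (AJ : ∀ A ∈ AA, A ≤ Jg) (Jle : Jg ≤ sSup AA ⊔ ((S : Subgroup G) ⊓ centralizer (X : Set G))) :
    ∃ (ι : Type) (_ : Finite ι) (W : ι → Subgroup G) (d t r : ι → G) (Lb A : ι → Subgroup G),
      SymOut (S : Subgroup G) P (zl (S : Subgroup G) P) Jg W d t r ∧
      (∀ i, Blk P (S : Subgroup G) (zl (S : Subgroup G) P) (ZJ (zl (S : Subgroup G) P) Jg) d r i (Lb i)) ∧
      (∀ x ∈ (S : Subgroup G), ∀ i j, x * d i * x⁻¹ = d j → cj x (Lb i) = Lb j) ∧
      (∀ i, A i ≤ Jg) ∧ (∀ i : ι, ∃ j, j ≠ i) ∧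
      FrL (BB (S : Subgroup G) (ZJ (zl (S : Subgroup G) P) Jg)) (o2 P) (zl (S : Subgroup G) P) X
        (ZJ (zl (S : Subgroup G) P) Jg) Lb W (fun i => zpowers (d i)) (fun i => CC W i) A 2 ∧
      Mv (BB (S : Subgroup G) (ZJ (zl (S : Subgroup G) P) Jg)) d ∧
      ((2 ≤ k ∨ 3 ≤ m) → ∀ i j : ι, ∃ l, l ≠ i ∧ l ≠ j) := by
  have hm1 : 1 ≤ m := by omega
  obtain ⟨ι, J, U, Y, t, r, h0, Lb, A, c, hs, hL, hc, hAJ, hF⟩ := exists_frame h hk hm1 N (h.cv_eq_bot_sym N)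
    (h.zc_o2_sym N hk hm1) JT Jn AJ Jle
  have hfin : Finite ι := hs.bau.finite_index
  have h4 : 2 ^ 2 ≤ 2 ^ m := Nat.pow_le_pow_right (by norm_num) hm
  have h5 : 5 ≤ 2 ^ m + 1 := by omega
  have eqB : BB (S : Subgroup G) (ZJ (zl (S : Subgroup G) P) Jg) =
      (S : Subgroup G) ⊓ centralizer (ZJ (zl (S : Subgroup G) P) Jg : Set G) := rfl
  have hZ : (S : Subgroup G) ≤ normalizer (ZJ (zl (S : Subgroup G) P) Jg : Set G) := by
    refine EK3.StarE.le_norm_of_cj_le fun s hs' => ?_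
    rintro _ ⟨z, hz, rfl⟩
    obtain ⟨h6, h7⟩ := mem_ZJ.1 hz
    refine mem_ZJ.2 ⟨h0.Vn s (h0.TH hs') z h6, fun j hj => ?_⟩
    have h8 : s⁻¹ * j * s ∈ Jg := by
      have := Jn s⁻¹ (inv_mem hs') j hj
      rwa [inv_inv] at this
    show j * (s * z * s⁻¹) = s * z * s⁻¹ * j
    calc j * (s * z * s⁻¹) = s * ((s⁻¹ * j * s) * z) * s⁻¹ := by group
      _ = s * (z * (s⁻¹ * j * s)) * s⁻¹ := by rw [h7 _ h8]
      _ = s * z * s⁻¹ * j := by group
  refine ⟨ι, hfin, _, _, t, r, Lb, A, hs, hL, hc, hAJ, fun i => ?_, hF, ?_, fun hkm => ?_⟩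
  · obtain ⟨l, hl', -⟩ := exists_partner h0 c h5 i
    exact ⟨l, hl'⟩
  · exact mv_of h0 c h5 (WOneG.syl_B S eqB hZ) hs.ZJ_eq (by rw [eqB]; exact le_norm_cent hZ)
  · refine three_of h0 c h5 ?_
    rcases hkm with h6 | h6
    · exact Or.inl h6
    · have h7 : 2 ^ 3 ≤ 2 ^ m := Nat.pow_le_pow_right (by norm_num) h6
      exact Or.inr (by omega)

/-- **The symmetric frame at a level `K ≤ O₂(P)`**, `B = C_S(Ω₁(Z(nxt S K)))`, `X = Ω₁(Z(K))`, with `Mv`. -/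
theorem exists_mv_lev {K : Subgroup G} (hFF : FFThm.StmtM.{v}) (hG : IsCharacteristicTwoType G)
    (hP : IsParS (S : Subgroup G) P) (hL : Lev (S : Subgroup G) K) (hK : K ≤ o2 P)
    (hcen : zc (S : Subgroup G) ⊓ centralizer (P : Set G) = ⊥)
    (hJ : ∃ A ∈ BO (S : Subgroup G) K, ¬ A ≤ o2 P) {k m : ℕ} (hk : 0 < k) (hm : 2 ≤ m)
    (N : SymKM (S : Subgroup G) P (zl (S : Subgroup G) P) (cv (S : Subgroup G) P) k m) :
    ∃ (ι : Type) (_ : Finite ι) (W : ι → Subgroup G) (d t r : ι → G) (Lb A : ι → Subgroup G),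
      SymOut (S : Subgroup G) P (zl (S : Subgroup G) P) (nxt (S : Subgroup G) K) W d t r ∧
      (∀ i, Blk P (S : Subgroup G) (zl (S : Subgroup G) P) (zc (nxt (S : Subgroup G) K)) d r i (Lb i)) ∧
      (∀ x ∈ (S : Subgroup G), ∀ i j, x * d i * x⁻¹ = d j → cj x (Lb i) = Lb j) ∧
      (∀ i, A i ≤ nxt (S : Subgroup G) K) ∧ (∀ i : ι, ∃ j, j ≠ i) ∧
      FrL ((S : Subgroup G) ⊓ centralizer (zc (nxt (S : Subgroup G) K) : Set G)) (o2 P) (zl (S : Subgroup G) P)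
        (zc K) (zc (nxt (S : Subgroup G) K)) Lb W (fun i => zpowers (d i)) (fun i => CC W i) A 2 ∧
      Mv ((S : Subgroup G) ⊓ centralizer (zc (nxt (S : Subgroup G) K) : Set G)) d ∧
      ((2 ≤ k ∨ 3 ≤ m) → ∀ i j : ι, ∃ l, l ≠ i ∧ l ≠ j) := by
  obtain ⟨h, hc⟩ := NO3S.OneLine.exa_lev hFF hG hP hL hK hcen hJ
  have e1 := (NO3S.OneLine.lev_eq hFF hG hP hL hK hcen hJ).2
  have e2 : ZJ (zl (S : Subgroup G) P) (nxt (S : Subgroup G) K) = zc (nxt (S : Subgroup G) K) := e1.symm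
  obtain ⟨ι, hι, W, d, t, r, Lb, A, h1, h2, h3, h4, h5, h6, h7, h8⟩ := exists_mv h hk hm N (NO3S.Level.nxt_le _ _)
    (nxt_norm hL) (fun A hA => NO3S.Level.BO.le_nxt hA) (nxt_le_sup _ _)
  have e3 : BB (S : Subgroup G) (ZJ (zl (S : Subgroup G) P) (nxt (S : Subgroup G) K)) =
      (S : Subgroup G) ⊓ centralizer (zc (nxt (S : Subgroup G) K) : Set G) := by rw [e2]; rfl
  rw [e3] at h7 h6
  rw [e2] at h2 h6
  exact ⟨ι, hι, W, d, t, r, Lb, A, h1, h2, h3, h4, h5, h6, h7, h8⟩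

end lev

/-! ### The action on `Y i` and `N i` -/

section act

open Cfsg.Agent.Omega.Node.MultiOf (FBl FBl.conj)
open Cfsg.Agent.Omega.EK3.StarE (EE_le cj_le_EE)

variable {ι : Type*} {B ZJ : Subgroup G} {L W : ι → Subgroup G} {d : ι → G}

/-- `cj g ⟨Z₀^H⟩ = ⟨(Z₀^g)^(H^g)⟩` -/
theorem cj_EE (g : G) (Z₀ H : Subgroup G) : cj g (EK3.StarE.EE Z₀ H) = EK3.StarE.EE (cj g Z₀) (cj g H) := by
  apply le_antisymm
  · rw [cj_le_iff]
    refine EE_le fun y hy => ?_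
    rw [← cj_le_iff, cj_cj]
    have e : g * y = (g * y * g⁻¹) * g := by group
    rw [e, ← cj_cj]
    have h1 : g * y * g⁻¹ ∈ cj g H := mem_map_of_mem _ hy
    exact cj_le_EE h1
  · refine EE_le ?_
    rintro _ ⟨y, hy, rfl⟩
    show cj (g * y * g⁻¹) (cj g Z₀) ≤ _
    rw [cj_cj]
    have e : g * y * g⁻¹ * g = g * y := by group
    rw [e, ← cj_cj]
    exact cj_mono g (cj_le_EE hy)

theorem cj_zpowers (g x : G) : cj g (zpowers x) = zpowers (g * x * g⁻¹) := by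
  unfold cj
  rw [MonoidHom.map_zpowers]
  rfl

/-- **`(C(Z_J) L_i)^g = C(Z_J) L_(σ i)`** -/
theorem cj_Y (fbl : ∀ i, FBl B (L i) (W i))
    (uni : ∀ L' V' : Subgroup G, FBl B L' V' → ∃ i, V' = W i ∧ L' ≤ L i ⊔ centralizer ((W i ⊔ ZJ : Subgroup G) : Set G))
    (hdW : ∀ i j, d i ∈ W j → i = j) (hdm : ∀ i, d i ∈ W i)
    (hBZ : normalizer (B : Set G) ≤ normalizer (ZJ : Set G))
    {g : G} (hg : g ∈ normalizer (B : Set G)) {σ : Equiv.Perm ι} (hσ : Pm d g σ) (i : ι) :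
    cj g (centralizer (ZJ : Set G) ⊔ L i) = centralizer (ZJ : Set G) ⊔ L (σ i) := by
  have key : ∀ g ∈ normalizer (B : Set G), ∀ σ : Equiv.Perm ι, Pm d g σ → ∀ i,
      cj g (centralizer (ZJ : Set G) ⊔ L i) ≤ centralizer (ZJ : Set G) ⊔ L (σ i) := by
    intro g hg σ hσ i
    have e1 : cj g (centralizer (ZJ : Set G)) = centralizer (ZJ : Set G) := by
      rw [cj_centralizer, cj_eq_of_mem_normalizer (hBZ hg)]
    obtain ⟨l, hl, hle⟩ := uni _ _ ((fbl i).conj hg)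
    have h1 : d (σ i) ∈ W l := by
      rw [← hσ i, ← hl]
      exact ⟨d i, hdm i, rfl⟩
    rw [← hdW _ _ h1] at hle
    rw [cj_sup, e1]
    refine sup_le le_sup_left (hle.trans (sup_le le_sup_right (le_sup_of_le_left (centralizer_le ?_))))
    exact_mod_cast (le_sup_right : ZJ ≤ W (σ i) ⊔ ZJ)
  refine le_antisymm (key g hg σ hσ i) ?_
  have hσ' : Pm d g⁻¹ σ.symm := by
    intro l
    have h1 := hσ (σ.symm l)
    rw [Equiv.apply_symm_apply] at h1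
    rw [← h1]; group
  have h2 := key _ (inv_mem hg) _ hσ' (σ i)
  rw [Equiv.symm_apply_apply] at h2
  have h3 := cj_mono g h2
  rwa [cj_cj_inv] at h3

/-- **`⟨d_i^(Y_i)⟩^g = ⟨d_(σ i)^(Y_(σ i))⟩`** -/
theorem cj_N {Y : ι → Subgroup G} {g : G} {σ : Equiv.Perm ι} (hσ : Pm d g σ) (hY : ∀ i, cj g (Y i) = Y (σ i)) (i : ι) :
    cj g (EK3.StarE.EE (zpowers (d i)) (Y i)) = EK3.StarE.EE (zpowers (d (σ i))) (Y (σ i)) := by
  rw [cj_EE, cj_zpowers, hσ i, hY i]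

end act

end Cfsg.Agent.Omega.EDel

end
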