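import Cfsg.Agent.Mrg.Omega.EDel.Gen
import Cfsg.Agent.Mrg.Omega.Node.MulG
import Cfsg.Agent.Mrg.Omega.OM.Lev.SFr
import Cfsg.Agent.Mrg.Omega.Node.SymG


/-!
# THEOREM S'': the instance at every stage, with coordinates

`LX S P B ZJ X N` : the light pairs `i : ι` of `V_P` (`Prs`), the frame `FrL` of the blocks `L i` over `B`, `N_G(B)` permutes
the blocks (`uni`), UNI+ for the FF-blocks over `B` with module in `X` (`uniX`).

* `exists_lx_lev` : at every level `K₀ ≤ O₂(P)`, `X = Ω₁(Z(K₀))`; `exists_lx_top`, `exists_lx_caseL` (`X = V_P`);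
* `exists_lx_neg` : at the stage `-1`, for every `X`; `exists_lx` : every stage `StgG`;
* `LX.zf`, `LX.cjY`, `LX.tr`, `LX.sw`, **`LX.false_of`** : no nontrivial 2-group is normalised by all the `⟨C_G(ZJ), L i⟩`
  and `k ≥ 2` or `m ≥ 3`: contradiction;
* **`eSX`** : the socket `ESX` (case (L)) for `k ≥ 2` or `m ≥ 3`; `symBigX`, `symManyX` : from (Om) only.
-/

set_option autoImplicit false
set_option linter.unusedSectionVars false

namespace Cfsg.Agent.Omega.EDel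

open Subgroup Cfsg Cfsg.Agent.ZN.ChoiceBase
open Cfsg.Agent.ZN (jj zj bau zc zl o2)
open Cfsg.Agent.ZN.ChoiceSit (Syl)
open Cfsg.Agent.Omega.MinPar (IsParS)
open Cfsg.Agent.Omega.FFThm (SymKM)
open Cfsg.Agent.Omega.FrameFF (cv)
open Cfsg.Agent.Omega.SQ1.FFSym
open Cfsg.Agent.Omega.NO3S (HypF HypN HypJ Hyp SymBigH SymManyH CaseLP)
open Cfsg.Agent.Omega.NO3S.Level (lev nxt Lev BO lev_isLev CaseL)
open Cfsg.Agent.Omega.Frame (Cls)
open Cfsg.Agent.Omega.OM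
open Cfsg.Agent.Omega.OM.LevD (LB)
open Cfsg.Agent.Omega.OM.Lev.Uni (FrL)
open Cfsg.Agent.Omega.OM.FrSym (CC)
open Cfsg.Agent.Omega.Node.MultiOf (FBl KZ NLoc)
open Cfsg.Agent.Omega.Node.MulG (Top StgG exists_BO_caseL top_caseL)
open Cfsg.Agent.Omega.Node.MulX (FBX KX uniTwoX SymL OmSX ESX symBigX_of symManyX_of)
open Cfsg.Agent.Omega.ESym (Prs prs_lev)

universe u

variable {G : Type u} [Group G] [Finite G]

/-- **The light pairs and their blocks over `B`.** -/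
structure LX (S : Sylow 2 G) (P B ZJ X : Subgroup G) {k m : ℕ}
    (N : SymKM (S : Subgroup G) P (zl (S : Subgroup G) P) (cv (S : Subgroup G) P) k m) where
  Xf : Subgroup G
  ι : Type
  J : ι → Fin k
  (U Y : ι → Fin (2 ^ m + 1))
  (L W C A : ι → Subgroup G)
  fi : Finite ι
  ne : Nonempty ι
  three : 2 ≤ k ∨ 3 ≤ m → ∀ i j : ι, ∃ l, l ≠ i ∧ l ≠ j
  prs : Prs (S : Subgroup G) P (zl (S : Subgroup G) P) (0 : Fin (2 ^ m + 1)) N.e J U Y
  frl : FrL B (o2 P) (zl (S : Subgroup G) P) Xf ZJ L W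
    (fun i => zpowers (u P (zl (S : Subgroup G) P) ⊥ N.e (J i) (U i) (Y i))) C A 2
  uni : ∀ g ∈ normalizer (B : Set G), ∀ i, ∃ j, cj g (W i) = W j ∧ cj g (L i) ≤ YL ZJ L j
  uniX : ∀ L' V' : Subgroup G, FBX B X L' V' →
    ∃ i, V' = W i ∧ L' ≤ L i ⊔ centralizer ((W i ⊔ ZJ : Subgroup G) : Set G)

omit [Finite G] in
theorem mem_zpowers_two {x y : G} (hx : x ^ 2 = 1) : y ∈ zpowers x ↔ y = 1 ∨ y = x := by
  constructor
  · rintro ⟨n, rfl⟩
    have h2 : x ^ (2 : ℤ) = 1 := by exact_mod_cast hx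
    rcases Int.even_or_odd' n with ⟨c, rfl | rfl⟩
    · left
      show x ^ (2 * c) = 1
      rw [zpow_mul, h2, one_zpow]
    · right
      show x ^ (2 * c + 1) = x
      rw [zpow_add, zpow_mul, h2, one_zpow, one_mul, zpow_one]
  · rintro (rfl | rfl)
    · exact one_mem _
    · exact mem_zpowers _

omit [Finite G] in
theorem le_YL_of {ι : Type} {W : ι → Subgroup G} {ZJ : Subgroup G} {L : ι → Subgroup G} {L' : Subgroup G} {i : ι}
    (h : L' ≤ L i ⊔ centralizer ((W i ⊔ ZJ : Subgroup G) : Set G)) : L' ≤ YL ZJ L i := by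
  refine h.trans (sup_le le_sup_right (le_sup_of_le_left (centralizer_le ?_)))
  exact_mod_cast (le_sup_right : ZJ ≤ W i ⊔ ZJ)

/-! ### Levels -/

section lev

variable {S : Sylow 2 G} {P : Subgroup G}

/-- **The instance at a level `K₀`.** -/
theorem exists_lx_lev (h : HypN S P) {K₀ : Subgroup G} (hw : NO3b.Wc.WC (S : Subgroup G) K₀)
    (hL : Lev (S : Subgroup G) K₀) (hK : K₀ ≤ o2 P)
    (hJ : ∃ A ∈ BO (S : Subgroup G) K₀, ¬ A ≤ o2 P) {k m : ℕ} (hk : 0 < k) (hm : 2 ≤ m)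
    (N : SymKM (S : Subgroup G) P (zl (S : Subgroup G) P) (cv (S : Subgroup G) P) k m) :
    Nonempty (LX S P ((S : Subgroup G) ⊓ centralizer (zc (nxt (S : Subgroup G) K₀) : Set G))
      (zc (nxt (S : Subgroup G) K₀)) (zc K₀) N) := by
  have hG := h.ctx.char2
  have hcen := h.toHyp.inf_eq_bot
  have hm1 : 1 ≤ m := by omega
  obtain ⟨hx, hc⟩ := NO3S.OneLine.exa_lev FF.Glob.ffthmM hG h.star hL hK hcen hJ
  have e1 := (NO3S.OneLine.lev_eq FF.Glob.ffthmM hG h.star hL hK hcen hJ).2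
  have e2 : Lev.SIn.ZJ (zl (S : Subgroup G) P) (nxt (S : Subgroup G) K₀) = zc (nxt (S : Subgroup G) K₀) := e1.symm
  obtain ⟨ι, J, U, Y, t, r, h0, Lb, A, c, hs, hLb, hcj, hAJ, hF⟩ := Lev.Sym.exists_frame hx hk hm1 N
    (hx.cv_eq_bot_sym N) (hx.zc_o2_sym N hk hm1) (NO3S.Level.nxt_le _ _) (Lev.Sym.nxt_norm hL)
    (fun A hA => NO3S.Level.BO.le_nxt hA) (Lev.Sym.nxt_le_sup _ _)
  rw [e2] at hLb hF
  have hfin : Finite ι := hs.bau.finite_index
  have hB2 : IsPGroup 2 ↥((S : Subgroup G) ⊓ centralizer (zc (nxt (S : Subgroup G) K₀) : Set G)) :=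
    S.isPGroup'.to_le inf_le_left
  have hWC := Lev.Wc.wc_cent_Lev hL.next
    (rfl : (S : Subgroup G) ⊓ centralizer (zc (nxt (S : Subgroup G) K₀) : Set G) = _)
  have h5 : 5 ≤ 2 ^ m + 1 := by
    have h6 : 2 ^ 2 ≤ 2 ^ m := Nat.pow_le_pow_right (by norm_num) hm
    omega
  have hu : ∀ L' V' : Subgroup G,
      FBX ((S : Subgroup G) ⊓ centralizer (zc (nxt (S : Subgroup G) K₀) : Set G)) (zc K₀) L' V' →
      ∃ i, V' = h0.NN (J i) 0 (U i) (Y i) ∧ L' ≤ Lb i ⊔ centralizer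
        ((h0.NN (J i) 0 (U i) (Y i) ⊔ zc (nxt (S : Subgroup G) K₀) : Subgroup G) : Set G) := fun L' V' h' =>
    uniTwoX S hL rfl rfl hF h'
  refine ⟨{
    Xf := zc K₀
    ι := ι
    J := J
    U := U
    Y := Y
    L := Lb
    W := fun i => h0.NN (J i) 0 (U i) (Y i)
    C := _
    A := A
    fi := hfin
    ne := ?_
    three := fun hkm i j => three_of h0 c h5 ?_ i j
    prs := prs_lev h0 c
    frl := hF
    uni := fun g hg i => ?_
    uniX := hu }⟩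
  · obtain ⟨j, x, y, hxy⟩ := h0.exists_tr
    obtain ⟨i, -⟩ := c.ex _ _ _ hxy
    exact ⟨i⟩
  · rcases hkm with h1 | h1
    · exact Or.inl h1
    · right
      have h6 : 2 ^ 3 ≤ 2 ^ m := Nat.pow_le_pow_right (by norm_num) h1
      omega
  · have hX : g ∈ normalizer (zc K₀ : Set G) := NO3S.Level.normalizer_le_zc _ (Lev.Wc.norm_B_Lev hL rfl hg)
    have hb : FBl ((S : Subgroup G) ⊓ centralizer (zc (nxt (S : Subgroup G) K₀) : Set G)) (Lb i)
        (h0.NN (J i) 0 (U i) (Y i)) :=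
      ⟨⟨_, _, hF.blk i⟩, (hF.blk i).toBlock (hF.cardZ i) hB2 (Node.MulG.lb_nxt hw).weakNormal⟩
    obtain ⟨j, h1, h2⟩ := hu _ _ ⟨hb.conj hg, by
      rw [← cj_eq_of_mem_normalizer hX]
      exact cj_mono g ((hF.WV i).trans hF.VX)⟩
    exact ⟨j, h1, le_YL_of (W := fun i => h0.NN (J i) 0 (U i) (Y i)) h2⟩

/-- `nxt S K₀ ≰ O₂(P)` gives a best offender. -/
theorem exists_BO_top (hG : IsCharacteristicTwoType G) (hP : IsParS (S : Subgroup G) P) {K₀ : Subgroup G}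
    (h : Top S P K₀) : ∃ A ∈ BO (S : Subgroup G) K₀, ¬ A ≤ o2 P := by
  by_contra hcon
  push Not at hcon
  apply h.nxt
  refine sup_le ?_ (sSup_le hcon)
  have h3 : zl (S : Subgroup G) P ≤ zc K₀ :=
    (hP.isLoc.zl_le S hG).trans (h.lev.zc_o2_le h.le (hP.isLoc.o2_le S))
  rw [← IsParS.inf_centralizer S hG hP]
  exact inf_le_inf_left _ (centralizer_le h3)

/-- **The instance at the stage `Top`.** -/
theorem exists_lx_top (h : HypN S P) {K₀ : Subgroup G} (hT : Top S P K₀) {k m : ℕ} (hk : 0 < k) (hm : 2 ≤ m)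
    (N : SymKM (S : Subgroup G) P (zl (S : Subgroup G) P) (cv (S : Subgroup G) P) k m) :
    Nonempty (LX S P ((S : Subgroup G) ⊓ centralizer (zc (nxt (S : Subgroup G) K₀) : Set G))
      (zc (nxt (S : Subgroup G) K₀)) (zc K₀) N) :=
  exists_lx_lev h hT.wc hT.lev hT.le (exists_BO_top h.ctx.char2 h.star hT) hk hm N

/-- **The instance in the case (L).** -/
theorem exists_lx_caseL (h : CaseL S P) {k m : ℕ} (hk : 0 < k) (hm : 2 ≤ m)
    (N : SymKM (S : Subgroup G) P (zl (S : Subgroup G) P) (cv (S : Subgroup G) P) k m) :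
    Nonempty (LX S P ((S : Subgroup G) ⊓ centralizer (zc (nxt (S : Subgroup G) (o2 P)) : Set G))
      (zc (nxt (S : Subgroup G) (o2 P))) (zl (S : Subgroup G) P) N) := by
  have h1 := exists_lx_lev h.hypN h.wc h.levQ le_rfl (exists_BO_caseL h) hk hm N
  rwa [h.zc_eq] at h1

end lev

/-! ### Stage `-1` -/

section neg

variable {S : Sylow 2 G} {P : Subgroup G}

/-- **The instance at the stage `-1`**, UNI+ for all FF-blocks over `B`. -/
theorem exists_lx_neg (h : HypJ S P) {k m : ℕ} (hk : 0 < k) (hm : 2 ≤ m)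
    (N : SymKM (S : Subgroup G) P (zl (S : Subgroup G) P) (cv (S : Subgroup G) P) k m) (X : Subgroup G) :
    Nonempty (LX S P (bau (S : Subgroup G)) (zj (S : Subgroup G)) X N) := by
  obtain ⟨l⟩ := ESym.Light.exists_neg h hk hm N
  have h5 : 5 ≤ 2 ^ m + 1 := by
    have h6 : 2 ^ 2 ≤ 2 ^ m := Nat.pow_le_pow_right (by norm_num) hm
    omega
  have lb : LB S (jj (S : Subgroup G)) (bau (S : Subgroup G)) (zj (S : Subgroup G)) := LB.neg S
  refine ⟨{
    Xf := l.Xf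
    ι := l.ι
    J := l.J
    U := l.X
    Y := l.X'
    L := l.L
    W := fun i => l.sy.NN (l.J i) 0 (l.X i) (l.X' i)
    C := _
    A := l.A
    fi := l.fi
    ne := ?_
    three := fun hkm i j => three_of l.sy l.ch h5 ?_ i j
    prs := prs_lev l.sy l.ch
    frl := l.frl
    uni := fun g hg i => ?_
    uniX := fun L' V' h' => l.uni L' V' h'.1 }⟩
  · obtain ⟨j, x, y, hxy⟩ := l.sy.exists_tr
    obtain ⟨i, -⟩ := l.ch.ex _ _ _ hxy
    exact ⟨i⟩
  · rcases hkm with h1 | h1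
    · exact Or.inl h1
    · right
      have h6 : 2 ^ 3 ≤ 2 ^ m := Nat.pow_le_pow_right (by norm_num) h1
      omega
  · have hb : FBl (bau (S : Subgroup G)) (l.L i) (l.sy.NN (l.J i) 0 (l.X i) (l.X' i)) :=
      ⟨⟨_, _, l.frl.blk i⟩, (l.frl.blk i).toBlock (l.frl.cardZ i) lb.Bp lb.weakNormal⟩
    obtain ⟨j, h1, h2⟩ := l.uni _ _ (hb.conj hg)
    exact ⟨j, h1, le_YL_of (W := fun i => l.sy.NN (l.J i) 0 (l.X i) (l.X' i)) h2⟩

end neg

/-! ### The end -/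

namespace LX

variable {S : Sylow 2 G} {P B ZJ X : Subgroup G} {k m : ℕ}
  {N : SymKM (S : Subgroup G) P (zl (S : Subgroup G) P) (cv (S : Subgroup G) P) k m} (l : LX S P B ZJ X N)

/-- the light vectors -/
noncomputable def d (i : l.ι) : G := u P (zl (S : Subgroup G) P) ⊥ N.e (l.J i) (l.U i) (l.Y i)

/-- **The frame `Zf`.** -/
theorem zf {K' : Subgroup G} (hG : IsCharacteristicTwoType G) (lb : LB S K' B ZJ) :
    Zf B (o2 P) (zl (S : Subgroup G) P) l.Xf ZJ l.L l.W (fun i => zpowers (l.d i)) l.C l.A l.d where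
  hG := hG
  fr := l.frl
  hz := fun i x => by
    refine mem_zpowers_two (SQ1.Bau.elem_sq l.frl.elX _ (l.frl.VX ?_))
    exact l.frl.ZV i (mem_zpowers _)
  Bp := lb.Bp
  syl R hR hR2 hBR := by
    have hSZ : (S : Subgroup G) ≤ normalizer (ZJ : Set G) :=
      (le_normalizer (H := (S : Subgroup G))).trans
        (lb.nrm _ S.isPGroup' ((lb.KB.trans lb.eqB.le).trans inf_le_left))
    exact ((OM.WOneG.syl_B S lb.eqB hSZ).2.2 R hR hR2 hBR).le
  uni g hg i := by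
    obtain ⟨j, hj, -⟩ := l.uni g hg i
    refine ⟨j, ?_, hj.le.trans le_sup_left⟩
    have e1 : cj g ⁅l.W i, B⁆ = ⁅cj g (l.W i), cj g B⁆ := Subgroup.map_commutator _ _ _
    have e2 := l.frl.comm_W i
    have e3 := l.frl.comm_W j
    show cj g (zpowers (l.d i)) = zpowers (l.d j)
    have e4 : ⁅l.W i, B⁆ = zpowers (l.d i) := e2
    have e5 : ⁅l.W j, B⁆ = zpowers (l.d j) := e3
    rw [← e4, e1, cj_eq_of_mem_normalizer hg, hj, e5]

/-- `N_G(B)` permutes the `⟨C_G(ZJ), L i⟩` as the light vectors. -/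
theorem cjY (g : G) (hg : g ∈ normalizer (B : Set G)) (i j : l.ι) (hij : g * l.d i * g⁻¹ = l.d j) :
    cj g (l.L i) ≤ YL ZJ l.L j := by
  obtain ⟨j', h1, h2⟩ := l.uni g hg i
  have hm : ∀ i, l.d i ∈ l.W i := fun i => (l.frl.blk i).ZV (mem_zpowers _)
  have h3 : l.d j ∈ l.W j' := by
    rw [← h1, ← hij]
    exact ⟨_, hm i, rfl⟩
  have h4 : j' = j := by
    by_contra hne
    have h5 : l.d j ∈ l.W j' ⊓ l.C j' := ⟨h3, l.frl.WjC j' j hne (hm j)⟩
    rw [l.frl.dir j', mem_bot] at h5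
    have h6 := l.frl.cardZ j
    have h7 : zpowers (l.d j) = ⊥ := zpowers_eq_bot.2 h5
    change Nat.card ↥(zpowers (l.d j)) = 2 at h6
    rw [h7, Subgroup.card_bot] at h6
    omega
  rw [← h4]
  exact h2

theorem tr (i j : l.ι) : ∃ g, ∃ π : Equiv.Perm l.ι, (∀ a, g * l.d a * g⁻¹ = l.d (π a)) ∧ π i = j := by
  have := l.fi
  obtain ⟨g, -, π, h1, h2⟩ := l.prs.trans i j
  exact ⟨g, π, h2, h1⟩

theorem sw (hm : 2 ≤ m) (i j : l.ι) (hij : i ≠ j) : ∃ g, ∃ π : Equiv.Perm l.ι,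
    (∀ a, g * l.d a * g⁻¹ = l.d (π a)) ∧ ((π i = i ∧ π j ≠ j) ∨ (π i = j ∧ π j = i)) := by
  have := l.fi
  have h6 : 2 ^ 2 ≤ 2 ^ m := Nat.pow_le_pow_right (by norm_num) hm
  rcases l.prs.sw (by omega) hij with ⟨g, -, π, h1, h2, h3⟩ | ⟨g, -, π, h1, h2, h3⟩
  · exact ⟨g, π, h3, Or.inl ⟨h1, h2⟩⟩
  · exact ⟨g, π, h3, Or.inr ⟨h1, h2⟩⟩

/-- **THEOREM S''**: if no nontrivial 2-group is normalised by all `⟨C_G(ZJ), L i⟩`: contradiction for `k ≥ 2` or
`m ≥ 3`. -/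
theorem false_of {K' : Subgroup G} (hG : IsCharacteristicTwoType G) (lb : LB S K' B ZJ)
    (hML : ML.Final.MLK.{u, u}) (hK : IsKProper G) (hm : 2 ≤ m) (hkm : 2 ≤ k ∨ 3 ≤ m)
    (nl : ∀ U : Subgroup G, U ≠ ⊥ → IsPGroup 2 U → ¬ ∀ i, YL ZJ l.L i ≤ normalizer (U : Set G)) : False := by
  have := l.fi
  have := l.ne
  exact (l.zf hG lb).false_of hML hK l.cjY nl (l.three hkm) l.tr (l.sw hm)

/-- `KX ≤ ⟨Y i⟩` -/
theorem KX_le : KX B ZJ X ≤ ⨆ i, YL ZJ l.L i := by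
  obtain ⟨i₀⟩ := l.ne
  refine sup_le ((D_le_YL i₀).trans (le_iSup (fun i => YL ZJ l.L i) i₀)) (iSup_le fun i => ?_)
  obtain ⟨j, -, h1⟩ := l.uniX _ _ i.2
  exact (le_YL_of h1).trans (le_iSup (fun i => YL ZJ l.L i) j)

include l in
/-- **The case (E) is impossible**, `KX` nonlocal. -/
theorem false_of_nloc {K' : Subgroup G} (hG : IsCharacteristicTwoType G) (lb : LB S K' B ZJ)
    (hML : ML.Final.MLK.{u, u}) (hK : IsKProper G) (hm : 2 ≤ m) (hkm : 2 ≤ k ∨ 3 ≤ m)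
    (hN : NLoc (KX B ZJ X)) : False :=
  l.false_of hG lb hML hK hm hkm fun U hU hU2 hn => hU (hN U hU2 (l.KX_le.trans (iSup_le hn)))

end LX

/-! ### The socket `ESX` -/

section socket

variable {K : Cls.{u}}

/-- **The case (E) of `CaseL`, symmetric blocks, at least three light pairs.** -/
theorem eSX (hML : ML.Final.MLK.{u, u}) {c : ℕ → ℕ → Prop} (hc : ∀ k m, c k m → 2 ≤ k ∨ 3 ≤ m) : ESX K c := by
  intro G _ _ hK S P B ZJ ι L W Z C A k m hk hm hkm hM hN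
  exfalso
  obtain ⟨N⟩ := hM.sym
  have lb := hM.lb
  rw [← hM.KX_eq] at hN
  obtain ⟨hcl, eZ, eB, -, -, -, -⟩ := hM
  obtain ⟨l⟩ := exists_lx_caseL hcl hk hm N
  subst eZ
  subst eB
  exact l.false_of_nloc hcl.ctx.char2 lb hML hcl.ctx.kproper hm (hc k m hkm) hN

/-- **`SymBigH K CaseLP`** from (Om). -/
theorem symBigX (hML : ML.Final.MLK.{u, u}) (hO : OmSX K fun k m => k = 1 ∧ 3 ≤ m) : SymBigH K CaseLP :=
  symBigX_of hO (eSX hML fun _ _ h => Or.inr h.2)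

/-- **`SymManyH K CaseLP`** from (Om). -/
theorem symManyX (hML : ML.Final.MLK.{u, u}) (hO : OmSX K fun k _ => 2 ≤ k) : SymManyH K CaseLP :=
  symManyX_of hO (eSX hML fun _ _ h => Or.inl h)

end socket

end Cfsg.Agent.Omega.EDel
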